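import Cfsg.Agent.H26.ONCover.Data0
import Cfsg.Agent.H26.ONCover.Data1
import Cfsg.Agent.H26.ONCover.Data2
import Cfsg.Agent.H26.ONCover.Data3
import Cfsg.Agent.H26.ONCover.Data4
import Cfsg.Agent.H26.ONCover.Data5

/-! A labelled permutation table for the triple cover of the O'Nan group (generated data). -/

set_option autoImplicit false
set_option maxRecDepth 100000
set_option linter.all false
set_option Elab.async false

namespace H26.ONCover

noncomputable section

def sel (q : ℕ) : ℕ := (Bool.rec (motive := fun _ => ℕ) (Bool.rec (motive := fun _ => ℕ) (Bool.rec (motive := fun _ => ℕ) (t5 q) (t4 q) (Nat.blt q 1600)) (t3 q) (Nat.blt q 1280)) (Bool.rec (motive := fun _ => ℕ) (Bool.rec (motive := fun _ => ℕ) (t2 q) (t1 q) (Nat.blt q 640)) (t0 q) (Nat.blt q 320)) (Nat.blt q 960))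

/-- image and label (times 2^17) of the letter g at the node c -/
def ent (g c : ℕ) : ℕ :=
  Nat.land (Nat.shiftRight (Nat.rec (motive := fun _ => ℕ) (sel 0) (fun m _ => sel (Nat.succ m)) (Nat.shiftRight c 6))
    (Nat.add (Nat.mul 152 (Nat.land c 63)) (Nat.mul 19 g))) 524287

end

end H26.ONCover
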