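import Cfsg.Agent.H93.CI.Table
import Cfsg.Agent.H26.ONCover.Data

/-! Checks for a labelled permutation table, and their meaning. -/

set_option autoImplicit false

namespace H26.ONCover

open H93.CosetI (force force_eq allRange allRange_spec band band_iff)

/-- follow a word, adding up the labels -/
noncomputable def track (w : List ℕ) (c s : ℕ) (k : ℕ → ℕ → Bool) : Bool :=
  List.rec (motive := fun _ => ℕ → ℕ → Bool) k
    (fun g _ ih c s => force (ent g c) fun e => ih (Nat.land e 131071) (Nat.add s (Nat.shiftRight e 17)))
    w c s

/-- target and label sum of a word -/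
def trace : List ℕ → ℕ → ℕ → ℕ × ℕ
  | [], c, s => (c, s)
  | g :: w, c, s => trace w (Nat.land (ent g c) 131071) (s + Nat.shiftRight (ent g c) 17)

theorem track_eq (w : List ℕ) (c s : ℕ) (k : ℕ → ℕ → Bool) :
    track w c s k = k (trace w c s).1 (trace w c s).2 := by
  induction w generalizing c s with
  | nil => rfl
  | cons g w ih =>
    show force (ent g c) (fun e => track w (Nat.land e 131071) (Nat.add s (Nat.shiftRight e 17)) k) = _
    rw [force_eq]; exact ih _ _

/-- on a range, the word fixes each node and adds `z` to its label -/
noncomputable def shiftOK (w : List ℕ) (z lo len : ℕ) : Bool :=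
  allRange lo len fun c => track w c 0 fun e s => band (Nat.beq e c) (Nat.beq (Nat.mod s 3) z)

/-- the entries are inside the table -/
noncomputable def rangeOK (g lo len : ℕ) : Bool :=
  allRange lo len fun c => Nat.blt (Nat.land (ent g c) 131071) 122760

theorem shiftOK_spec {w : List ℕ} {z lo len : ℕ} (h : shiftOK w z lo len = true) {c : ℕ} (h1 : lo ≤ c)
    (h2 : c < lo + len) : (trace w c 0).1 = c ∧ (trace w c 0).2 % 3 = z := by
  have := allRange_spec h c h1 h2
  simp only [track_eq, band_iff, Nat.beq_eq] at this
  exact this

theorem rangeOK_spec {g lo len : ℕ} (h : rangeOK g lo len = true) {c : ℕ} (h1 : lo ≤ c)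
    (h2 : c < lo + len) : Nat.land (ent g c) 131071 < 122760 := by
  have := allRange_spec h c h1 h2
  simpa [Nat.blt] using this

end H26.ONCover
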