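import Cfsg.Agent.H26.ONCover.Check

/-! Checks of the labelled table (generated data). -/

set_option autoImplicit false
set_option maxRecDepth 100000
set_option linter.all false
set_option Elab.async false

namespace H26.ONCover

theorem w5_0 : shiftOK [5,0,5,0] 0 0 12276 = true := by decide +kernel
theorem w5_1 : shiftOK [5,0,5,0] 0 12276 12276 = true := by decide +kernel
theorem w5_2 : shiftOK [5,0,5,0] 0 24552 12276 = true := by decide +kernel
theorem w5_3 : shiftOK [5,0,5,0] 0 36828 12276 = true := by decide +kernel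
theorem w5_4 : shiftOK [5,0,5,0] 0 49104 12276 = true := by decide +kernel
theorem w5_5 : shiftOK [5,0,5,0] 0 61380 12276 = true := by decide +kernel
theorem w5_6 : shiftOK [5,0,5,0] 0 73656 12276 = true := by decide +kernel
theorem w5_7 : shiftOK [5,0,5,0] 0 85932 12276 = true := by decide +kernel
theorem w5_8 : shiftOK [5,0,5,0] 0 98208 12276 = true := by decide +kernel
theorem w5_9 : shiftOK [5,0,5,0] 0 110484 12276 = true := by decide +kernel
theorem w5 : ∀ c < 122760, (trace [5,0,5,0] c 0).1 = c ∧ (trace [5,0,5,0] c 0).2 % 3 = 0 := fun c hc => by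
  by_cases h0 : c < 12276
  · exact shiftOK_spec w5_0 (by omega) (by omega)
  by_cases h1 : c < 24552
  · exact shiftOK_spec w5_1 (by omega) (by omega)
  by_cases h2 : c < 36828
  · exact shiftOK_spec w5_2 (by omega) (by omega)
  by_cases h3 : c < 49104
  · exact shiftOK_spec w5_3 (by omega) (by omega)
  by_cases h4 : c < 61380
  · exact shiftOK_spec w5_4 (by omega) (by omega)
  by_cases h5 : c < 73656
  · exact shiftOK_spec w5_5 (by omega) (by omega)
  by_cases h6 : c < 85932
  · exact shiftOK_spec w5_6 (by omega) (by omega)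
  by_cases h7 : c < 98208
  · exact shiftOK_spec w5_7 (by omega) (by omega)
  by_cases h8 : c < 110484
  · exact shiftOK_spec w5_8 (by omega) (by omega)
  exact shiftOK_spec w5_9 (by omega) (by omega)

theorem w17_0 : shiftOK [5,3,5,3] 0 0 12276 = true := by decide +kernel
theorem w17_1 : shiftOK [5,3,5,3] 0 12276 12276 = true := by decide +kernel
theorem w17_2 : shiftOK [5,3,5,3] 0 24552 12276 = true := by decide +kernel
theorem w17_3 : shiftOK [5,3,5,3] 0 36828 12276 = true := by decide +kernel
theorem w17_4 : shiftOK [5,3,5,3] 0 49104 12276 = true := by decide +kernel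
theorem w17_5 : shiftOK [5,3,5,3] 0 61380 12276 = true := by decide +kernel
theorem w17_6 : shiftOK [5,3,5,3] 0 73656 12276 = true := by decide +kernel
theorem w17_7 : shiftOK [5,3,5,3] 0 85932 12276 = true := by decide +kernel
theorem w17_8 : shiftOK [5,3,5,3] 0 98208 12276 = true := by decide +kernel
theorem w17_9 : shiftOK [5,3,5,3] 0 110484 12276 = true := by decide +kernel
theorem w17 : ∀ c < 122760, (trace [5,3,5,3] c 0).1 = c ∧ (trace [5,3,5,3] c 0).2 % 3 = 0 := fun c hc => by
  by_cases h0 : c < 12276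
  · exact shiftOK_spec w17_0 (by omega) (by omega)
  by_cases h1 : c < 24552
  · exact shiftOK_spec w17_1 (by omega) (by omega)
  by_cases h2 : c < 36828
  · exact shiftOK_spec w17_2 (by omega) (by omega)
  by_cases h3 : c < 49104
  · exact shiftOK_spec w17_3 (by omega) (by omega)
  by_cases h4 : c < 61380
  · exact shiftOK_spec w17_4 (by omega) (by omega)
  by_cases h5 : c < 73656
  · exact shiftOK_spec w17_5 (by omega) (by omega)
  by_cases h6 : c < 85932
  · exact shiftOK_spec w17_6 (by omega) (by omega)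
  by_cases h7 : c < 98208
  · exact shiftOK_spec w17_7 (by omega) (by omega)
  by_cases h8 : c < 110484
  · exact shiftOK_spec w17_8 (by omega) (by omega)
  exact shiftOK_spec w17_9 (by omega) (by omega)

theorem w25_0 : shiftOK [6,3,2,1,6,3,2,1,6,3,2,1,6,3,2,1,6,3,2,1] 1 0 12276 = true := by decide +kernel
theorem w25_1 : shiftOK [6,3,2,1,6,3,2,1,6,3,2,1,6,3,2,1,6,3,2,1] 1 12276 12276 = true := by decide +kernel
theorem w25_2 : shiftOK [6,3,2,1,6,3,2,1,6,3,2,1,6,3,2,1,6,3,2,1] 1 24552 12276 = true := by decide +kernel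
theorem w25_3 : shiftOK [6,3,2,1,6,3,2,1,6,3,2,1,6,3,2,1,6,3,2,1] 1 36828 12276 = true := by decide +kernel
theorem w25_4 : shiftOK [6,3,2,1,6,3,2,1,6,3,2,1,6,3,2,1,6,3,2,1] 1 49104 12276 = true := by decide +kernel
theorem w25_5 : shiftOK [6,3,2,1,6,3,2,1,6,3,2,1,6,3,2,1,6,3,2,1] 1 61380 12276 = true := by decide +kernel
theorem w25_6 : shiftOK [6,3,2,1,6,3,2,1,6,3,2,1,6,3,2,1,6,3,2,1] 1 73656 12276 = true := by decide +kernel
theorem w25_7 : shiftOK [6,3,2,1,6,3,2,1,6,3,2,1,6,3,2,1,6,3,2,1] 1 85932 12276 = true := by decide +kernel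
theorem w25_8 : shiftOK [6,3,2,1,6,3,2,1,6,3,2,1,6,3,2,1,6,3,2,1] 1 98208 12276 = true := by decide +kernel
theorem w25_9 : shiftOK [6,3,2,1,6,3,2,1,6,3,2,1,6,3,2,1,6,3,2,1] 1 110484 12276 = true := by decide +kernel
theorem w25 : ∀ c < 122760, (trace [6,3,2,1,6,3,2,1,6,3,2,1,6,3,2,1,6,3,2,1] c 0).1 = c ∧ (trace [6,3,2,1,6,3,2,1,6,3,2,1,6,3,2,1,6,3,2,1] c 0).2 % 3 = 1 := fun c hc => by
  by_cases h0 : c < 12276
  · exact shiftOK_spec w25_0 (by omega) (by omega)
  by_cases h1 : c < 24552
  · exact shiftOK_spec w25_1 (by omega) (by omega)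
  by_cases h2 : c < 36828
  · exact shiftOK_spec w25_2 (by omega) (by omega)
  by_cases h3 : c < 49104
  · exact shiftOK_spec w25_3 (by omega) (by omega)
  by_cases h4 : c < 61380
  · exact shiftOK_spec w25_4 (by omega) (by omega)
  by_cases h5 : c < 73656
  · exact shiftOK_spec w25_5 (by omega) (by omega)
  by_cases h6 : c < 85932
  · exact shiftOK_spec w25_6 (by omega) (by omega)
  by_cases h7 : c < 98208
  · exact shiftOK_spec w25_7 (by omega) (by omega)
  by_cases h8 : c < 110484
  · exact shiftOK_spec w25_8 (by omega) (by omega)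
  exact shiftOK_spec w25_9 (by omega) (by omega)

theorem w29_0 : shiftOK [7,6] 0 0 12276 = true := by decide +kernel
theorem w29_1 : shiftOK [7,6] 0 12276 12276 = true := by decide +kernel
theorem w29_2 : shiftOK [7,6] 0 24552 12276 = true := by decide +kernel
theorem w29_3 : shiftOK [7,6] 0 36828 12276 = true := by decide +kernel
theorem w29_4 : shiftOK [7,6] 0 49104 12276 = true := by decide +kernel
theorem w29_5 : shiftOK [7,6] 0 61380 12276 = true := by decide +kernel
theorem w29_6 : shiftOK [7,6] 0 73656 12276 = true := by decide +kernel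
theorem w29_7 : shiftOK [7,6] 0 85932 12276 = true := by decide +kernel
theorem w29_8 : shiftOK [7,6] 0 98208 12276 = true := by decide +kernel
theorem w29_9 : shiftOK [7,6] 0 110484 12276 = true := by decide +kernel
theorem w29 : ∀ c < 122760, (trace [7,6] c 0).1 = c ∧ (trace [7,6] c 0).2 % 3 = 0 := fun c hc => by
  by_cases h0 : c < 12276
  · exact shiftOK_spec w29_0 (by omega) (by omega)
  by_cases h1 : c < 24552
  · exact shiftOK_spec w29_1 (by omega) (by omega)
  by_cases h2 : c < 36828
  · exact shiftOK_spec w29_2 (by omega) (by omega)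
  by_cases h3 : c < 49104
  · exact shiftOK_spec w29_3 (by omega) (by omega)
  by_cases h4 : c < 61380
  · exact shiftOK_spec w29_4 (by omega) (by omega)
  by_cases h5 : c < 73656
  · exact shiftOK_spec w29_5 (by omega) (by omega)
  by_cases h6 : c < 85932
  · exact shiftOK_spec w29_6 (by omega) (by omega)
  by_cases h7 : c < 98208
  · exact shiftOK_spec w29_7 (by omega) (by omega)
  by_cases h8 : c < 110484
  · exact shiftOK_spec w29_8 (by omega) (by omega)
  exact shiftOK_spec w29_9 (by omega) (by omega)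

end H26.ONCover
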