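import Cfsg.Agent.H26.ONCover.Check

/-! Checks of the labelled table (generated data). -/

set_option autoImplicit false
set_option maxRecDepth 100000
set_option linter.all false
set_option Elab.async false

namespace H26.ONCover

theorem w12_0 : shiftOK [3,2,3,2,3,2,3,2,3,2,3,2,3,2,3,2] 0 0 12276 = true := by decide +kernel
theorem w12_1 : shiftOK [3,2,3,2,3,2,3,2,3,2,3,2,3,2,3,2] 0 12276 12276 = true := by decide +kernel
theorem w12_2 : shiftOK [3,2,3,2,3,2,3,2,3,2,3,2,3,2,3,2] 0 24552 12276 = true := by decide +kernel
theorem w12_3 : shiftOK [3,2,3,2,3,2,3,2,3,2,3,2,3,2,3,2] 0 36828 12276 = true := by decide +kernel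
theorem w12_4 : shiftOK [3,2,3,2,3,2,3,2,3,2,3,2,3,2,3,2] 0 49104 12276 = true := by decide +kernel
theorem w12_5 : shiftOK [3,2,3,2,3,2,3,2,3,2,3,2,3,2,3,2] 0 61380 12276 = true := by decide +kernel
theorem w12_6 : shiftOK [3,2,3,2,3,2,3,2,3,2,3,2,3,2,3,2] 0 73656 12276 = true := by decide +kernel
theorem w12_7 : shiftOK [3,2,3,2,3,2,3,2,3,2,3,2,3,2,3,2] 0 85932 12276 = true := by decide +kernel
theorem w12_8 : shiftOK [3,2,3,2,3,2,3,2,3,2,3,2,3,2,3,2] 0 98208 12276 = true := by decide +kernel
theorem w12_9 : shiftOK [3,2,3,2,3,2,3,2,3,2,3,2,3,2,3,2] 0 110484 12276 = true := by decide +kernel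
theorem w12 : ∀ c < 122760, (trace [3,2,3,2,3,2,3,2,3,2,3,2,3,2,3,2] c 0).1 = c ∧ (trace [3,2,3,2,3,2,3,2,3,2,3,2,3,2,3,2] c 0).2 % 3 = 0 := fun c hc => by
  by_cases h0 : c < 12276
  · exact shiftOK_spec w12_0 (by omega) (by omega)
  by_cases h1 : c < 24552
  · exact shiftOK_spec w12_1 (by omega) (by omega)
  by_cases h2 : c < 36828
  · exact shiftOK_spec w12_2 (by omega) (by omega)
  by_cases h3 : c < 49104
  · exact shiftOK_spec w12_3 (by omega) (by omega)
  by_cases h4 : c < 61380
  · exact shiftOK_spec w12_4 (by omega) (by omega)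
  by_cases h5 : c < 73656
  · exact shiftOK_spec w12_5 (by omega) (by omega)
  by_cases h6 : c < 85932
  · exact shiftOK_spec w12_6 (by omega) (by omega)
  by_cases h7 : c < 98208
  · exact shiftOK_spec w12_7 (by omega) (by omega)
  by_cases h8 : c < 110484
  · exact shiftOK_spec w12_8 (by omega) (by omega)
  exact shiftOK_spec w12_9 (by omega) (by omega)

theorem w14_0 : shiftOK [5,2,5,2] 0 0 12276 = true := by decide +kernel
theorem w14_1 : shiftOK [5,2,5,2] 0 12276 12276 = true := by decide +kernel
theorem w14_2 : shiftOK [5,2,5,2] 0 24552 12276 = true := by decide +kernel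
theorem w14_3 : shiftOK [5,2,5,2] 0 36828 12276 = true := by decide +kernel
theorem w14_4 : shiftOK [5,2,5,2] 0 49104 12276 = true := by decide +kernel
theorem w14_5 : shiftOK [5,2,5,2] 0 61380 12276 = true := by decide +kernel
theorem w14_6 : shiftOK [5,2,5,2] 0 73656 12276 = true := by decide +kernel
theorem w14_7 : shiftOK [5,2,5,2] 0 85932 12276 = true := by decide +kernel
theorem w14_8 : shiftOK [5,2,5,2] 0 98208 12276 = true := by decide +kernel
theorem w14_9 : shiftOK [5,2,5,2] 0 110484 12276 = true := by decide +kernel
theorem w14 : ∀ c < 122760, (trace [5,2,5,2] c 0).1 = c ∧ (trace [5,2,5,2] c 0).2 % 3 = 0 := fun c hc => by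
  by_cases h0 : c < 12276
  · exact shiftOK_spec w14_0 (by omega) (by omega)
  by_cases h1 : c < 24552
  · exact shiftOK_spec w14_1 (by omega) (by omega)
  by_cases h2 : c < 36828
  · exact shiftOK_spec w14_2 (by omega) (by omega)
  by_cases h3 : c < 49104
  · exact shiftOK_spec w14_3 (by omega) (by omega)
  by_cases h4 : c < 61380
  · exact shiftOK_spec w14_4 (by omega) (by omega)
  by_cases h5 : c < 73656
  · exact shiftOK_spec w14_5 (by omega) (by omega)
  by_cases h6 : c < 85932
  · exact shiftOK_spec w14_6 (by omega) (by omega)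
  by_cases h7 : c < 98208
  · exact shiftOK_spec w14_7 (by omega) (by omega)
  by_cases h8 : c < 110484
  · exact shiftOK_spec w14_8 (by omega) (by omega)
  exact shiftOK_spec w14_9 (by omega) (by omega)

theorem w15_0 : shiftOK [3,3] 0 0 12276 = true := by decide +kernel
theorem w15_1 : shiftOK [3,3] 0 12276 12276 = true := by decide +kernel
theorem w15_2 : shiftOK [3,3] 0 24552 12276 = true := by decide +kernel
theorem w15_3 : shiftOK [3,3] 0 36828 12276 = true := by decide +kernel
theorem w15_4 : shiftOK [3,3] 0 49104 12276 = true := by decide +kernel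
theorem w15_5 : shiftOK [3,3] 0 61380 12276 = true := by decide +kernel
theorem w15_6 : shiftOK [3,3] 0 73656 12276 = true := by decide +kernel
theorem w15_7 : shiftOK [3,3] 0 85932 12276 = true := by decide +kernel
theorem w15_8 : shiftOK [3,3] 0 98208 12276 = true := by decide +kernel
theorem w15_9 : shiftOK [3,3] 0 110484 12276 = true := by decide +kernel
theorem w15 : ∀ c < 122760, (trace [3,3] c 0).1 = c ∧ (trace [3,3] c 0).2 % 3 = 0 := fun c hc => by
  by_cases h0 : c < 12276
  · exact shiftOK_spec w15_0 (by omega) (by omega)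
  by_cases h1 : c < 24552
  · exact shiftOK_spec w15_1 (by omega) (by omega)
  by_cases h2 : c < 36828
  · exact shiftOK_spec w15_2 (by omega) (by omega)
  by_cases h3 : c < 49104
  · exact shiftOK_spec w15_3 (by omega) (by omega)
  by_cases h4 : c < 61380
  · exact shiftOK_spec w15_4 (by omega) (by omega)
  by_cases h5 : c < 73656
  · exact shiftOK_spec w15_5 (by omega) (by omega)
  by_cases h6 : c < 85932
  · exact shiftOK_spec w15_6 (by omega) (by omega)
  by_cases h7 : c < 98208
  · exact shiftOK_spec w15_7 (by omega) (by omega)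
  by_cases h8 : c < 110484
  · exact shiftOK_spec w15_8 (by omega) (by omega)
  exact shiftOK_spec w15_9 (by omega) (by omega)

theorem w19_0 : shiftOK [5,4,5,4,5,4] 0 0 12276 = true := by decide +kernel
theorem w19_1 : shiftOK [5,4,5,4,5,4] 0 12276 12276 = true := by decide +kernel
theorem w19_2 : shiftOK [5,4,5,4,5,4] 0 24552 12276 = true := by decide +kernel
theorem w19_3 : shiftOK [5,4,5,4,5,4] 0 36828 12276 = true := by decide +kernel
theorem w19_4 : shiftOK [5,4,5,4,5,4] 0 49104 12276 = true := by decide +kernel
theorem w19_5 : shiftOK [5,4,5,4,5,4] 0 61380 12276 = true := by decide +kernel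
theorem w19_6 : shiftOK [5,4,5,4,5,4] 0 73656 12276 = true := by decide +kernel
theorem w19_7 : shiftOK [5,4,5,4,5,4] 0 85932 12276 = true := by decide +kernel
theorem w19_8 : shiftOK [5,4,5,4,5,4] 0 98208 12276 = true := by decide +kernel
theorem w19_9 : shiftOK [5,4,5,4,5,4] 0 110484 12276 = true := by decide +kernel
theorem w19 : ∀ c < 122760, (trace [5,4,5,4,5,4] c 0).1 = c ∧ (trace [5,4,5,4,5,4] c 0).2 % 3 = 0 := fun c hc => by
  by_cases h0 : c < 12276
  · exact shiftOK_spec w19_0 (by omega) (by omega)
  by_cases h1 : c < 24552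
  · exact shiftOK_spec w19_1 (by omega) (by omega)
  by_cases h2 : c < 36828
  · exact shiftOK_spec w19_2 (by omega) (by omega)
  by_cases h3 : c < 49104
  · exact shiftOK_spec w19_3 (by omega) (by omega)
  by_cases h4 : c < 61380
  · exact shiftOK_spec w19_4 (by omega) (by omega)
  by_cases h5 : c < 73656
  · exact shiftOK_spec w19_5 (by omega) (by omega)
  by_cases h6 : c < 85932
  · exact shiftOK_spec w19_6 (by omega) (by omega)
  by_cases h7 : c < 98208
  · exact shiftOK_spec w19_7 (by omega) (by omega)
  by_cases h8 : c < 110484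
  · exact shiftOK_spec w19_8 (by omega) (by omega)
  exact shiftOK_spec w19_9 (by omega) (by omega)

theorem r0_0 : rangeOK 0 0 12276 = true := by decide +kernel
theorem r0_1 : rangeOK 0 12276 12276 = true := by decide +kernel
theorem r0_2 : rangeOK 0 24552 12276 = true := by decide +kernel
theorem r0_3 : rangeOK 0 36828 12276 = true := by decide +kernel
theorem r0_4 : rangeOK 0 49104 12276 = true := by decide +kernel
theorem r0_5 : rangeOK 0 61380 12276 = true := by decide +kernel
theorem r0_6 : rangeOK 0 73656 12276 = true := by decide +kernel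
theorem r0_7 : rangeOK 0 85932 12276 = true := by decide +kernel
theorem r0_8 : rangeOK 0 98208 12276 = true := by decide +kernel
theorem r0_9 : rangeOK 0 110484 12276 = true := by decide +kernel
theorem r0 : ∀ c < 122760, Nat.land (ent 0 c) 131071 < 122760 := fun c hc => by
  by_cases h0 : c < 12276
  · exact rangeOK_spec r0_0 (by omega) (by omega)
  by_cases h1 : c < 24552
  · exact rangeOK_spec r0_1 (by omega) (by omega)
  by_cases h2 : c < 36828
  · exact rangeOK_spec r0_2 (by omega) (by omega)
  by_cases h3 : c < 49104
  · exact rangeOK_spec r0_3 (by omega) (by omega)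
  by_cases h4 : c < 61380
  · exact rangeOK_spec r0_4 (by omega) (by omega)
  by_cases h5 : c < 73656
  · exact rangeOK_spec r0_5 (by omega) (by omega)
  by_cases h6 : c < 85932
  · exact rangeOK_spec r0_6 (by omega) (by omega)
  by_cases h7 : c < 98208
  · exact rangeOK_spec r0_7 (by omega) (by omega)
  by_cases h8 : c < 110484
  · exact rangeOK_spec r0_8 (by omega) (by omega)
  exact rangeOK_spec r0_9 (by omega) (by omega)

theorem r1_0 : rangeOK 1 0 12276 = true := by decide +kernel
theorem r1_1 : rangeOK 1 12276 12276 = true := by decide +kernel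
theorem r1_2 : rangeOK 1 24552 12276 = true := by decide +kernel
theorem r1_3 : rangeOK 1 36828 12276 = true := by decide +kernel
theorem r1_4 : rangeOK 1 49104 12276 = true := by decide +kernel
theorem r1_5 : rangeOK 1 61380 12276 = true := by decide +kernel
theorem r1_6 : rangeOK 1 73656 12276 = true := by decide +kernel
theorem r1_7 : rangeOK 1 85932 12276 = true := by decide +kernel
theorem r1_8 : rangeOK 1 98208 12276 = true := by decide +kernel
theorem r1_9 : rangeOK 1 110484 12276 = true := by decide +kernel
theorem r1 : ∀ c < 122760, Nat.land (ent 1 c) 131071 < 122760 := fun c hc => by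
  by_cases h0 : c < 12276
  · exact rangeOK_spec r1_0 (by omega) (by omega)
  by_cases h1 : c < 24552
  · exact rangeOK_spec r1_1 (by omega) (by omega)
  by_cases h2 : c < 36828
  · exact rangeOK_spec r1_2 (by omega) (by omega)
  by_cases h3 : c < 49104
  · exact rangeOK_spec r1_3 (by omega) (by omega)
  by_cases h4 : c < 61380
  · exact rangeOK_spec r1_4 (by omega) (by omega)
  by_cases h5 : c < 73656
  · exact rangeOK_spec r1_5 (by omega) (by omega)
  by_cases h6 : c < 85932
  · exact rangeOK_spec r1_6 (by omega) (by omega)
  by_cases h7 : c < 98208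
  · exact rangeOK_spec r1_7 (by omega) (by omega)
  by_cases h8 : c < 110484
  · exact rangeOK_spec r1_8 (by omega) (by omega)
  exact rangeOK_spec r1_9 (by omega) (by omega)

theorem r2_0 : rangeOK 2 0 12276 = true := by decide +kernel
theorem r2_1 : rangeOK 2 12276 12276 = true := by decide +kernel
theorem r2_2 : rangeOK 2 24552 12276 = true := by decide +kernel
theorem r2_3 : rangeOK 2 36828 12276 = true := by decide +kernel
theorem r2_4 : rangeOK 2 49104 12276 = true := by decide +kernel
theorem r2_5 : rangeOK 2 61380 12276 = true := by decide +kernel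
theorem r2_6 : rangeOK 2 73656 12276 = true := by decide +kernel
theorem r2_7 : rangeOK 2 85932 12276 = true := by decide +kernel
theorem r2_8 : rangeOK 2 98208 12276 = true := by decide +kernel
theorem r2_9 : rangeOK 2 110484 12276 = true := by decide +kernel
theorem r2 : ∀ c < 122760, Nat.land (ent 2 c) 131071 < 122760 := fun c hc => by
  by_cases h0 : c < 12276
  · exact rangeOK_spec r2_0 (by omega) (by omega)
  by_cases h1 : c < 24552
  · exact rangeOK_spec r2_1 (by omega) (by omega)
  by_cases h2 : c < 36828
  · exact rangeOK_spec r2_2 (by omega) (by omega)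
  by_cases h3 : c < 49104
  · exact rangeOK_spec r2_3 (by omega) (by omega)
  by_cases h4 : c < 61380
  · exact rangeOK_spec r2_4 (by omega) (by omega)
  by_cases h5 : c < 73656
  · exact rangeOK_spec r2_5 (by omega) (by omega)
  by_cases h6 : c < 85932
  · exact rangeOK_spec r2_6 (by omega) (by omega)
  by_cases h7 : c < 98208
  · exact rangeOK_spec r2_7 (by omega) (by omega)
  by_cases h8 : c < 110484
  · exact rangeOK_spec r2_8 (by omega) (by omega)
  exact rangeOK_spec r2_9 (by omega) (by omega)

theorem r3_0 : rangeOK 3 0 12276 = true := by decide +kernel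
theorem r3_1 : rangeOK 3 12276 12276 = true := by decide +kernel
theorem r3_2 : rangeOK 3 24552 12276 = true := by decide +kernel
theorem r3_3 : rangeOK 3 36828 12276 = true := by decide +kernel
theorem r3_4 : rangeOK 3 49104 12276 = true := by decide +kernel
theorem r3_5 : rangeOK 3 61380 12276 = true := by decide +kernel
theorem r3_6 : rangeOK 3 73656 12276 = true := by decide +kernel
theorem r3_7 : rangeOK 3 85932 12276 = true := by decide +kernel
theorem r3_8 : rangeOK 3 98208 12276 = true := by decide +kernel
theorem r3_9 : rangeOK 3 110484 12276 = true := by decide +kernel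
theorem r3 : ∀ c < 122760, Nat.land (ent 3 c) 131071 < 122760 := fun c hc => by
  by_cases h0 : c < 12276
  · exact rangeOK_spec r3_0 (by omega) (by omega)
  by_cases h1 : c < 24552
  · exact rangeOK_spec r3_1 (by omega) (by omega)
  by_cases h2 : c < 36828
  · exact rangeOK_spec r3_2 (by omega) (by omega)
  by_cases h3 : c < 49104
  · exact rangeOK_spec r3_3 (by omega) (by omega)
  by_cases h4 : c < 61380
  · exact rangeOK_spec r3_4 (by omega) (by omega)
  by_cases h5 : c < 73656
  · exact rangeOK_spec r3_5 (by omega) (by omega)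
  by_cases h6 : c < 85932
  · exact rangeOK_spec r3_6 (by omega) (by omega)
  by_cases h7 : c < 98208
  · exact rangeOK_spec r3_7 (by omega) (by omega)
  by_cases h8 : c < 110484
  · exact rangeOK_spec r3_8 (by omega) (by omega)
  exact rangeOK_spec r3_9 (by omega) (by omega)

theorem r4_0 : rangeOK 4 0 12276 = true := by decide +kernel
theorem r4_1 : rangeOK 4 12276 12276 = true := by decide +kernel
theorem r4_2 : rangeOK 4 24552 12276 = true := by decide +kernel
theorem r4_3 : rangeOK 4 36828 12276 = true := by decide +kernel
theorem r4_4 : rangeOK 4 49104 12276 = true := by decide +kernel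
theorem r4_5 : rangeOK 4 61380 12276 = true := by decide +kernel
theorem r4_6 : rangeOK 4 73656 12276 = true := by decide +kernel
theorem r4_7 : rangeOK 4 85932 12276 = true := by decide +kernel
theorem r4_8 : rangeOK 4 98208 12276 = true := by decide +kernel
theorem r4_9 : rangeOK 4 110484 12276 = true := by decide +kernel
theorem r4 : ∀ c < 122760, Nat.land (ent 4 c) 131071 < 122760 := fun c hc => by
  by_cases h0 : c < 12276
  · exact rangeOK_spec r4_0 (by omega) (by omega)
  by_cases h1 : c < 24552
  · exact rangeOK_spec r4_1 (by omega) (by omega)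
  by_cases h2 : c < 36828
  · exact rangeOK_spec r4_2 (by omega) (by omega)
  by_cases h3 : c < 49104
  · exact rangeOK_spec r4_3 (by omega) (by omega)
  by_cases h4 : c < 61380
  · exact rangeOK_spec r4_4 (by omega) (by omega)
  by_cases h5 : c < 73656
  · exact rangeOK_spec r4_5 (by omega) (by omega)
  by_cases h6 : c < 85932
  · exact rangeOK_spec r4_6 (by omega) (by omega)
  by_cases h7 : c < 98208
  · exact rangeOK_spec r4_7 (by omega) (by omega)
  by_cases h8 : c < 110484
  · exact rangeOK_spec r4_8 (by omega) (by omega)
  exact rangeOK_spec r4_9 (by omega) (by omega)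

theorem r5_0 : rangeOK 5 0 12276 = true := by decide +kernel
theorem r5_1 : rangeOK 5 12276 12276 = true := by decide +kernel
theorem r5_2 : rangeOK 5 24552 12276 = true := by decide +kernel
theorem r5_3 : rangeOK 5 36828 12276 = true := by decide +kernel
theorem r5_4 : rangeOK 5 49104 12276 = true := by decide +kernel
theorem r5_5 : rangeOK 5 61380 12276 = true := by decide +kernel
theorem r5_6 : rangeOK 5 73656 12276 = true := by decide +kernel
theorem r5_7 : rangeOK 5 85932 12276 = true := by decide +kernel
theorem r5_8 : rangeOK 5 98208 12276 = true := by decide +kernel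
theorem r5_9 : rangeOK 5 110484 12276 = true := by decide +kernel
theorem r5 : ∀ c < 122760, Nat.land (ent 5 c) 131071 < 122760 := fun c hc => by
  by_cases h0 : c < 12276
  · exact rangeOK_spec r5_0 (by omega) (by omega)
  by_cases h1 : c < 24552
  · exact rangeOK_spec r5_1 (by omega) (by omega)
  by_cases h2 : c < 36828
  · exact rangeOK_spec r5_2 (by omega) (by omega)
  by_cases h3 : c < 49104
  · exact rangeOK_spec r5_3 (by omega) (by omega)
  by_cases h4 : c < 61380
  · exact rangeOK_spec r5_4 (by omega) (by omega)
  by_cases h5 : c < 73656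
  · exact rangeOK_spec r5_5 (by omega) (by omega)
  by_cases h6 : c < 85932
  · exact rangeOK_spec r5_6 (by omega) (by omega)
  by_cases h7 : c < 98208
  · exact rangeOK_spec r5_7 (by omega) (by omega)
  by_cases h8 : c < 110484
  · exact rangeOK_spec r5_8 (by omega) (by omega)
  exact rangeOK_spec r5_9 (by omega) (by omega)

theorem r6_0 : rangeOK 6 0 12276 = true := by decide +kernel
theorem r6_1 : rangeOK 6 12276 12276 = true := by decide +kernel
theorem r6_2 : rangeOK 6 24552 12276 = true := by decide +kernel
theorem r6_3 : rangeOK 6 36828 12276 = true := by decide +kernel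
theorem r6_4 : rangeOK 6 49104 12276 = true := by decide +kernel
theorem r6_5 : rangeOK 6 61380 12276 = true := by decide +kernel
theorem r6_6 : rangeOK 6 73656 12276 = true := by decide +kernel
theorem r6_7 : rangeOK 6 85932 12276 = true := by decide +kernel
theorem r6_8 : rangeOK 6 98208 12276 = true := by decide +kernel
theorem r6_9 : rangeOK 6 110484 12276 = true := by decide +kernel
theorem r6 : ∀ c < 122760, Nat.land (ent 6 c) 131071 < 122760 := fun c hc => by
  by_cases h0 : c < 12276
  · exact rangeOK_spec r6_0 (by omega) (by omega)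
  by_cases h1 : c < 24552
  · exact rangeOK_spec r6_1 (by omega) (by omega)
  by_cases h2 : c < 36828
  · exact rangeOK_spec r6_2 (by omega) (by omega)
  by_cases h3 : c < 49104
  · exact rangeOK_spec r6_3 (by omega) (by omega)
  by_cases h4 : c < 61380
  · exact rangeOK_spec r6_4 (by omega) (by omega)
  by_cases h5 : c < 73656
  · exact rangeOK_spec r6_5 (by omega) (by omega)
  by_cases h6 : c < 85932
  · exact rangeOK_spec r6_6 (by omega) (by omega)
  by_cases h7 : c < 98208
  · exact rangeOK_spec r6_7 (by omega) (by omega)
  by_cases h8 : c < 110484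
  · exact rangeOK_spec r6_8 (by omega) (by omega)
  exact rangeOK_spec r6_9 (by omega) (by omega)

theorem r7_0 : rangeOK 7 0 12276 = true := by decide +kernel
theorem r7_1 : rangeOK 7 12276 12276 = true := by decide +kernel
theorem r7_2 : rangeOK 7 24552 12276 = true := by decide +kernel
theorem r7_3 : rangeOK 7 36828 12276 = true := by decide +kernel
theorem r7_4 : rangeOK 7 49104 12276 = true := by decide +kernel
theorem r7_5 : rangeOK 7 61380 12276 = true := by decide +kernel
theorem r7_6 : rangeOK 7 73656 12276 = true := by decide +kernel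
theorem r7_7 : rangeOK 7 85932 12276 = true := by decide +kernel
theorem r7_8 : rangeOK 7 98208 12276 = true := by decide +kernel
theorem r7_9 : rangeOK 7 110484 12276 = true := by decide +kernel
theorem r7 : ∀ c < 122760, Nat.land (ent 7 c) 131071 < 122760 := fun c hc => by
  by_cases h0 : c < 12276
  · exact rangeOK_spec r7_0 (by omega) (by omega)
  by_cases h1 : c < 24552
  · exact rangeOK_spec r7_1 (by omega) (by omega)
  by_cases h2 : c < 36828
  · exact rangeOK_spec r7_2 (by omega) (by omega)
  by_cases h3 : c < 49104
  · exact rangeOK_spec r7_3 (by omega) (by omega)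
  by_cases h4 : c < 61380
  · exact rangeOK_spec r7_4 (by omega) (by omega)
  by_cases h5 : c < 73656
  · exact rangeOK_spec r7_5 (by omega) (by omega)
  by_cases h6 : c < 85932
  · exact rangeOK_spec r7_6 (by omega) (by omega)
  by_cases h7 : c < 98208
  · exact rangeOK_spec r7_7 (by omega) (by omega)
  by_cases h8 : c < 110484
  · exact rangeOK_spec r7_8 (by omega) (by omega)
  exact rangeOK_spec r7_9 (by omega) (by omega)

end H26.ONCover
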