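import Cfsg.Agent.H26.ONCover.Check

/-! Checks of the labelled table (generated data). -/

set_option autoImplicit false
set_option maxRecDepth 100000
set_option linter.all false
set_option Elab.async false

namespace H26.ONCover

theorem w3_0 : shiftOK [3,0,3,0] 0 0 12276 = true := by decide +kernel
theorem w3_1 : shiftOK [3,0,3,0] 0 12276 12276 = true := by decide +kernel
theorem w3_2 : shiftOK [3,0,3,0] 0 24552 12276 = true := by decide +kernel
theorem w3_3 : shiftOK [3,0,3,0] 0 36828 12276 = true := by decide +kernel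
theorem w3_4 : shiftOK [3,0,3,0] 0 49104 12276 = true := by decide +kernel
theorem w3_5 : shiftOK [3,0,3,0] 0 61380 12276 = true := by decide +kernel
theorem w3_6 : shiftOK [3,0,3,0] 0 73656 12276 = true := by decide +kernel
theorem w3_7 : shiftOK [3,0,3,0] 0 85932 12276 = true := by decide +kernel
theorem w3_8 : shiftOK [3,0,3,0] 0 98208 12276 = true := by decide +kernel
theorem w3_9 : shiftOK [3,0,3,0] 0 110484 12276 = true := by decide +kernel
theorem w3 : ∀ c < 122760, (trace [3,0,3,0] c 0).1 = c ∧ (trace [3,0,3,0] c 0).2 % 3 = 0 := fun c hc => by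
  by_cases h0 : c < 12276
  · exact shiftOK_spec w3_0 (by omega) (by omega)
  by_cases h1 : c < 24552
  · exact shiftOK_spec w3_1 (by omega) (by omega)
  by_cases h2 : c < 36828
  · exact shiftOK_spec w3_2 (by omega) (by omega)
  by_cases h3 : c < 49104
  · exact shiftOK_spec w3_3 (by omega) (by omega)
  by_cases h4 : c < 61380
  · exact shiftOK_spec w3_4 (by omega) (by omega)
  by_cases h5 : c < 73656
  · exact shiftOK_spec w3_5 (by omega) (by omega)
  by_cases h6 : c < 85932
  · exact shiftOK_spec w3_6 (by omega) (by omega)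
  by_cases h7 : c < 98208
  · exact shiftOK_spec w3_7 (by omega) (by omega)
  by_cases h8 : c < 110484
  · exact shiftOK_spec w3_8 (by omega) (by omega)
  exact shiftOK_spec w3_9 (by omega) (by omega)

theorem w6_0 : shiftOK [1,1] 0 0 12276 = true := by decide +kernel
theorem w6_1 : shiftOK [1,1] 0 12276 12276 = true := by decide +kernel
theorem w6_2 : shiftOK [1,1] 0 24552 12276 = true := by decide +kernel
theorem w6_3 : shiftOK [1,1] 0 36828 12276 = true := by decide +kernel
theorem w6_4 : shiftOK [1,1] 0 49104 12276 = true := by decide +kernel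
theorem w6_5 : shiftOK [1,1] 0 61380 12276 = true := by decide +kernel
theorem w6_6 : shiftOK [1,1] 0 73656 12276 = true := by decide +kernel
theorem w6_7 : shiftOK [1,1] 0 85932 12276 = true := by decide +kernel
theorem w6_8 : shiftOK [1,1] 0 98208 12276 = true := by decide +kernel
theorem w6_9 : shiftOK [1,1] 0 110484 12276 = true := by decide +kernel
theorem w6 : ∀ c < 122760, (trace [1,1] c 0).1 = c ∧ (trace [1,1] c 0).2 % 3 = 0 := fun c hc => by
  by_cases h0 : c < 12276
  · exact shiftOK_spec w6_0 (by omega) (by omega)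
  by_cases h1 : c < 24552
  · exact shiftOK_spec w6_1 (by omega) (by omega)
  by_cases h2 : c < 36828
  · exact shiftOK_spec w6_2 (by omega) (by omega)
  by_cases h3 : c < 49104
  · exact shiftOK_spec w6_3 (by omega) (by omega)
  by_cases h4 : c < 61380
  · exact shiftOK_spec w6_4 (by omega) (by omega)
  by_cases h5 : c < 73656
  · exact shiftOK_spec w6_5 (by omega) (by omega)
  by_cases h6 : c < 85932
  · exact shiftOK_spec w6_6 (by omega) (by omega)
  by_cases h7 : c < 98208
  · exact shiftOK_spec w6_7 (by omega) (by omega)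
  by_cases h8 : c < 110484
  · exact shiftOK_spec w6_8 (by omega) (by omega)
  exact shiftOK_spec w6_9 (by omega) (by omega)

theorem w7_0 : shiftOK [2,1,2,1,2,1] 0 0 12276 = true := by decide +kernel
theorem w7_1 : shiftOK [2,1,2,1,2,1] 0 12276 12276 = true := by decide +kernel
theorem w7_2 : shiftOK [2,1,2,1,2,1] 0 24552 12276 = true := by decide +kernel
theorem w7_3 : shiftOK [2,1,2,1,2,1] 0 36828 12276 = true := by decide +kernel
theorem w7_4 : shiftOK [2,1,2,1,2,1] 0 49104 12276 = true := by decide +kernel
theorem w7_5 : shiftOK [2,1,2,1,2,1] 0 61380 12276 = true := by decide +kernel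
theorem w7_6 : shiftOK [2,1,2,1,2,1] 0 73656 12276 = true := by decide +kernel
theorem w7_7 : shiftOK [2,1,2,1,2,1] 0 85932 12276 = true := by decide +kernel
theorem w7_8 : shiftOK [2,1,2,1,2,1] 0 98208 12276 = true := by decide +kernel
theorem w7_9 : shiftOK [2,1,2,1,2,1] 0 110484 12276 = true := by decide +kernel
theorem w7 : ∀ c < 122760, (trace [2,1,2,1,2,1] c 0).1 = c ∧ (trace [2,1,2,1,2,1] c 0).2 % 3 = 0 := fun c hc => by
  by_cases h0 : c < 12276
  · exact shiftOK_spec w7_0 (by omega) (by omega)
  by_cases h1 : c < 24552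
  · exact shiftOK_spec w7_1 (by omega) (by omega)
  by_cases h2 : c < 36828
  · exact shiftOK_spec w7_2 (by omega) (by omega)
  by_cases h3 : c < 49104
  · exact shiftOK_spec w7_3 (by omega) (by omega)
  by_cases h4 : c < 61380
  · exact shiftOK_spec w7_4 (by omega) (by omega)
  by_cases h5 : c < 73656
  · exact shiftOK_spec w7_5 (by omega) (by omega)
  by_cases h6 : c < 85932
  · exact shiftOK_spec w7_6 (by omega) (by omega)
  by_cases h7 : c < 98208
  · exact shiftOK_spec w7_7 (by omega) (by omega)
  by_cases h8 : c < 110484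
  · exact shiftOK_spec w7_8 (by omega) (by omega)
  exact shiftOK_spec w7_9 (by omega) (by omega)

theorem w10_0 : shiftOK [5,1,5,1] 0 0 12276 = true := by decide +kernel
theorem w10_1 : shiftOK [5,1,5,1] 0 12276 12276 = true := by decide +kernel
theorem w10_2 : shiftOK [5,1,5,1] 0 24552 12276 = true := by decide +kernel
theorem w10_3 : shiftOK [5,1,5,1] 0 36828 12276 = true := by decide +kernel
theorem w10_4 : shiftOK [5,1,5,1] 0 49104 12276 = true := by decide +kernel
theorem w10_5 : shiftOK [5,1,5,1] 0 61380 12276 = true := by decide +kernel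
theorem w10_6 : shiftOK [5,1,5,1] 0 73656 12276 = true := by decide +kernel
theorem w10_7 : shiftOK [5,1,5,1] 0 85932 12276 = true := by decide +kernel
theorem w10_8 : shiftOK [5,1,5,1] 0 98208 12276 = true := by decide +kernel
theorem w10_9 : shiftOK [5,1,5,1] 0 110484 12276 = true := by decide +kernel
theorem w10 : ∀ c < 122760, (trace [5,1,5,1] c 0).1 = c ∧ (trace [5,1,5,1] c 0).2 % 3 = 0 := fun c hc => by
  by_cases h0 : c < 12276
  · exact shiftOK_spec w10_0 (by omega) (by omega)
  by_cases h1 : c < 24552
  · exact shiftOK_spec w10_1 (by omega) (by omega)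
  by_cases h2 : c < 36828
  · exact shiftOK_spec w10_2 (by omega) (by omega)
  by_cases h3 : c < 49104
  · exact shiftOK_spec w10_3 (by omega) (by omega)
  by_cases h4 : c < 61380
  · exact shiftOK_spec w10_4 (by omega) (by omega)
  by_cases h5 : c < 73656
  · exact shiftOK_spec w10_5 (by omega) (by omega)
  by_cases h6 : c < 85932
  · exact shiftOK_spec w10_6 (by omega) (by omega)
  by_cases h7 : c < 98208
  · exact shiftOK_spec w10_7 (by omega) (by omega)
  by_cases h8 : c < 110484
  · exact shiftOK_spec w10_8 (by omega) (by omega)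
  exact shiftOK_spec w10_9 (by omega) (by omega)

theorem w20_0 : shiftOK [5,5] 0 0 12276 = true := by decide +kernel
theorem w20_1 : shiftOK [5,5] 0 12276 12276 = true := by decide +kernel
theorem w20_2 : shiftOK [5,5] 0 24552 12276 = true := by decide +kernel
theorem w20_3 : shiftOK [5,5] 0 36828 12276 = true := by decide +kernel
theorem w20_4 : shiftOK [5,5] 0 49104 12276 = true := by decide +kernel
theorem w20_5 : shiftOK [5,5] 0 61380 12276 = true := by decide +kernel
theorem w20_6 : shiftOK [5,5] 0 73656 12276 = true := by decide +kernel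
theorem w20_7 : shiftOK [5,5] 0 85932 12276 = true := by decide +kernel
theorem w20_8 : shiftOK [5,5] 0 98208 12276 = true := by decide +kernel
theorem w20_9 : shiftOK [5,5] 0 110484 12276 = true := by decide +kernel
theorem w20 : ∀ c < 122760, (trace [5,5] c 0).1 = c ∧ (trace [5,5] c 0).2 % 3 = 0 := fun c hc => by
  by_cases h0 : c < 12276
  · exact shiftOK_spec w20_0 (by omega) (by omega)
  by_cases h1 : c < 24552
  · exact shiftOK_spec w20_1 (by omega) (by omega)
  by_cases h2 : c < 36828
  · exact shiftOK_spec w20_2 (by omega) (by omega)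
  by_cases h3 : c < 49104
  · exact shiftOK_spec w20_3 (by omega) (by omega)
  by_cases h4 : c < 61380
  · exact shiftOK_spec w20_4 (by omega) (by omega)
  by_cases h5 : c < 73656
  · exact shiftOK_spec w20_5 (by omega) (by omega)
  by_cases h6 : c < 85932
  · exact shiftOK_spec w20_6 (by omega) (by omega)
  by_cases h7 : c < 98208
  · exact shiftOK_spec w20_7 (by omega) (by omega)
  by_cases h8 : c < 110484
  · exact shiftOK_spec w20_8 (by omega) (by omega)
  exact shiftOK_spec w20_9 (by omega) (by omega)

theorem w26_0 : shiftOK [2,6,2,1,6,1,2,6,2,1,6] 1 0 12276 = true := by decide +kernel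
theorem w26_1 : shiftOK [2,6,2,1,6,1,2,6,2,1,6] 1 12276 12276 = true := by decide +kernel
theorem w26_2 : shiftOK [2,6,2,1,6,1,2,6,2,1,6] 1 24552 12276 = true := by decide +kernel
theorem w26_3 : shiftOK [2,6,2,1,6,1,2,6,2,1,6] 1 36828 12276 = true := by decide +kernel
theorem w26_4 : shiftOK [2,6,2,1,6,1,2,6,2,1,6] 1 49104 12276 = true := by decide +kernel
theorem w26_5 : shiftOK [2,6,2,1,6,1,2,6,2,1,6] 1 61380 12276 = true := by decide +kernel
theorem w26_6 : shiftOK [2,6,2,1,6,1,2,6,2,1,6] 1 73656 12276 = true := by decide +kernel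
theorem w26_7 : shiftOK [2,6,2,1,6,1,2,6,2,1,6] 1 85932 12276 = true := by decide +kernel
theorem w26_8 : shiftOK [2,6,2,1,6,1,2,6,2,1,6] 1 98208 12276 = true := by decide +kernel
theorem w26_9 : shiftOK [2,6,2,1,6,1,2,6,2,1,6] 1 110484 12276 = true := by decide +kernel
theorem w26 : ∀ c < 122760, (trace [2,6,2,1,6,1,2,6,2,1,6] c 0).1 = c ∧ (trace [2,6,2,1,6,1,2,6,2,1,6] c 0).2 % 3 = 1 := fun c hc => by
  by_cases h0 : c < 12276
  · exact shiftOK_spec w26_0 (by omega) (by omega)
  by_cases h1 : c < 24552
  · exact shiftOK_spec w26_1 (by omega) (by omega)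
  by_cases h2 : c < 36828
  · exact shiftOK_spec w26_2 (by omega) (by omega)
  by_cases h3 : c < 49104
  · exact shiftOK_spec w26_3 (by omega) (by omega)
  by_cases h4 : c < 61380
  · exact shiftOK_spec w26_4 (by omega) (by omega)
  by_cases h5 : c < 73656
  · exact shiftOK_spec w26_5 (by omega) (by omega)
  by_cases h6 : c < 85932
  · exact shiftOK_spec w26_6 (by omega) (by omega)
  by_cases h7 : c < 98208
  · exact shiftOK_spec w26_7 (by omega) (by omega)
  by_cases h8 : c < 110484
  · exact shiftOK_spec w26_8 (by omega) (by omega)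
  exact shiftOK_spec w26_9 (by omega) (by omega)

end H26.ONCover
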