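import Cfsg.Agent.H26.ONCover.Check

/-! Checks of the labelled table (generated data). -/

set_option autoImplicit false
set_option maxRecDepth 100000
set_option linter.all false
set_option Elab.async false

namespace H26.ONCover

theorem w4_0 : shiftOK [4,0,4,0] 0 0 12276 = true := by decide +kernel
theorem w4_1 : shiftOK [4,0,4,0] 0 12276 12276 = true := by decide +kernel
theorem w4_2 : shiftOK [4,0,4,0] 0 24552 12276 = true := by decide +kernel
theorem w4_3 : shiftOK [4,0,4,0] 0 36828 12276 = true := by decide +kernel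
theorem w4_4 : shiftOK [4,0,4,0] 0 49104 12276 = true := by decide +kernel
theorem w4_5 : shiftOK [4,0,4,0] 0 61380 12276 = true := by decide +kernel
theorem w4_6 : shiftOK [4,0,4,0] 0 73656 12276 = true := by decide +kernel
theorem w4_7 : shiftOK [4,0,4,0] 0 85932 12276 = true := by decide +kernel
theorem w4_8 : shiftOK [4,0,4,0] 0 98208 12276 = true := by decide +kernel
theorem w4_9 : shiftOK [4,0,4,0] 0 110484 12276 = true := by decide +kernel
theorem w4 : ∀ c < 122760, (trace [4,0,4,0] c 0).1 = c ∧ (trace [4,0,4,0] c 0).2 % 3 = 0 := fun c hc => by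
  by_cases h0 : c < 12276
  · exact shiftOK_spec w4_0 (by omega) (by omega)
  by_cases h1 : c < 24552
  · exact shiftOK_spec w4_1 (by omega) (by omega)
  by_cases h2 : c < 36828
  · exact shiftOK_spec w4_2 (by omega) (by omega)
  by_cases h3 : c < 49104
  · exact shiftOK_spec w4_3 (by omega) (by omega)
  by_cases h4 : c < 61380
  · exact shiftOK_spec w4_4 (by omega) (by omega)
  by_cases h5 : c < 73656
  · exact shiftOK_spec w4_5 (by omega) (by omega)
  by_cases h6 : c < 85932
  · exact shiftOK_spec w4_6 (by omega) (by omega)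
  by_cases h7 : c < 98208
  · exact shiftOK_spec w4_7 (by omega) (by omega)
  by_cases h8 : c < 110484
  · exact shiftOK_spec w4_8 (by omega) (by omega)
  exact shiftOK_spec w4_9 (by omega) (by omega)

theorem w11_0 : shiftOK [2,2] 0 0 12276 = true := by decide +kernel
theorem w11_1 : shiftOK [2,2] 0 12276 12276 = true := by decide +kernel
theorem w11_2 : shiftOK [2,2] 0 24552 12276 = true := by decide +kernel
theorem w11_3 : shiftOK [2,2] 0 36828 12276 = true := by decide +kernel
theorem w11_4 : shiftOK [2,2] 0 49104 12276 = true := by decide +kernel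
theorem w11_5 : shiftOK [2,2] 0 61380 12276 = true := by decide +kernel
theorem w11_6 : shiftOK [2,2] 0 73656 12276 = true := by decide +kernel
theorem w11_7 : shiftOK [2,2] 0 85932 12276 = true := by decide +kernel
theorem w11_8 : shiftOK [2,2] 0 98208 12276 = true := by decide +kernel
theorem w11_9 : shiftOK [2,2] 0 110484 12276 = true := by decide +kernel
theorem w11 : ∀ c < 122760, (trace [2,2] c 0).1 = c ∧ (trace [2,2] c 0).2 % 3 = 0 := fun c hc => by
  by_cases h0 : c < 12276
  · exact shiftOK_spec w11_0 (by omega) (by omega)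
  by_cases h1 : c < 24552
  · exact shiftOK_spec w11_1 (by omega) (by omega)
  by_cases h2 : c < 36828
  · exact shiftOK_spec w11_2 (by omega) (by omega)
  by_cases h3 : c < 49104
  · exact shiftOK_spec w11_3 (by omega) (by omega)
  by_cases h4 : c < 61380
  · exact shiftOK_spec w11_4 (by omega) (by omega)
  by_cases h5 : c < 73656
  · exact shiftOK_spec w11_5 (by omega) (by omega)
  by_cases h6 : c < 85932
  · exact shiftOK_spec w11_6 (by omega) (by omega)
  by_cases h7 : c < 98208
  · exact shiftOK_spec w11_7 (by omega) (by omega)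
  by_cases h8 : c < 110484
  · exact shiftOK_spec w11_8 (by omega) (by omega)
  exact shiftOK_spec w11_9 (by omega) (by omega)

theorem w13_0 : shiftOK [4,2,4,2] 0 0 12276 = true := by decide +kernel
theorem w13_1 : shiftOK [4,2,4,2] 0 12276 12276 = true := by decide +kernel
theorem w13_2 : shiftOK [4,2,4,2] 0 24552 12276 = true := by decide +kernel
theorem w13_3 : shiftOK [4,2,4,2] 0 36828 12276 = true := by decide +kernel
theorem w13_4 : shiftOK [4,2,4,2] 0 49104 12276 = true := by decide +kernel
theorem w13_5 : shiftOK [4,2,4,2] 0 61380 12276 = true := by decide +kernel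
theorem w13_6 : shiftOK [4,2,4,2] 0 73656 12276 = true := by decide +kernel
theorem w13_7 : shiftOK [4,2,4,2] 0 85932 12276 = true := by decide +kernel
theorem w13_8 : shiftOK [4,2,4,2] 0 98208 12276 = true := by decide +kernel
theorem w13_9 : shiftOK [4,2,4,2] 0 110484 12276 = true := by decide +kernel
theorem w13 : ∀ c < 122760, (trace [4,2,4,2] c 0).1 = c ∧ (trace [4,2,4,2] c 0).2 % 3 = 0 := fun c hc => by
  by_cases h0 : c < 12276
  · exact shiftOK_spec w13_0 (by omega) (by omega)
  by_cases h1 : c < 24552
  · exact shiftOK_spec w13_1 (by omega) (by omega)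
  by_cases h2 : c < 36828
  · exact shiftOK_spec w13_2 (by omega) (by omega)
  by_cases h3 : c < 49104
  · exact shiftOK_spec w13_3 (by omega) (by omega)
  by_cases h4 : c < 61380
  · exact shiftOK_spec w13_4 (by omega) (by omega)
  by_cases h5 : c < 73656
  · exact shiftOK_spec w13_5 (by omega) (by omega)
  by_cases h6 : c < 85932
  · exact shiftOK_spec w13_6 (by omega) (by omega)
  by_cases h7 : c < 98208
  · exact shiftOK_spec w13_7 (by omega) (by omega)
  by_cases h8 : c < 110484
  · exact shiftOK_spec w13_8 (by omega) (by omega)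
  exact shiftOK_spec w13_9 (by omega) (by omega)

theorem w16_0 : shiftOK [4,3,4,3,4,3] 0 0 12276 = true := by decide +kernel
theorem w16_1 : shiftOK [4,3,4,3,4,3] 0 12276 12276 = true := by decide +kernel
theorem w16_2 : shiftOK [4,3,4,3,4,3] 0 24552 12276 = true := by decide +kernel
theorem w16_3 : shiftOK [4,3,4,3,4,3] 0 36828 12276 = true := by decide +kernel
theorem w16_4 : shiftOK [4,3,4,3,4,3] 0 49104 12276 = true := by decide +kernel
theorem w16_5 : shiftOK [4,3,4,3,4,3] 0 61380 12276 = true := by decide +kernel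
theorem w16_6 : shiftOK [4,3,4,3,4,3] 0 73656 12276 = true := by decide +kernel
theorem w16_7 : shiftOK [4,3,4,3,4,3] 0 85932 12276 = true := by decide +kernel
theorem w16_8 : shiftOK [4,3,4,3,4,3] 0 98208 12276 = true := by decide +kernel
theorem w16_9 : shiftOK [4,3,4,3,4,3] 0 110484 12276 = true := by decide +kernel
theorem w16 : ∀ c < 122760, (trace [4,3,4,3,4,3] c 0).1 = c ∧ (trace [4,3,4,3,4,3] c 0).2 % 3 = 0 := fun c hc => by
  by_cases h0 : c < 12276
  · exact shiftOK_spec w16_0 (by omega) (by omega)
  by_cases h1 : c < 24552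
  · exact shiftOK_spec w16_1 (by omega) (by omega)
  by_cases h2 : c < 36828
  · exact shiftOK_spec w16_2 (by omega) (by omega)
  by_cases h3 : c < 49104
  · exact shiftOK_spec w16_3 (by omega) (by omega)
  by_cases h4 : c < 61380
  · exact shiftOK_spec w16_4 (by omega) (by omega)
  by_cases h5 : c < 73656
  · exact shiftOK_spec w16_5 (by omega) (by omega)
  by_cases h6 : c < 85932
  · exact shiftOK_spec w16_6 (by omega) (by omega)
  by_cases h7 : c < 98208
  · exact shiftOK_spec w16_7 (by omega) (by omega)
  by_cases h8 : c < 110484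
  · exact shiftOK_spec w16_8 (by omega) (by omega)
  exact shiftOK_spec w16_9 (by omega) (by omega)

theorem w27_0 : shiftOK [3,6,3,4,6,4,3,6,3,4,6] 1 0 12276 = true := by decide +kernel
theorem w27_1 : shiftOK [3,6,3,4,6,4,3,6,3,4,6] 1 12276 12276 = true := by decide +kernel
theorem w27_2 : shiftOK [3,6,3,4,6,4,3,6,3,4,6] 1 24552 12276 = true := by decide +kernel
theorem w27_3 : shiftOK [3,6,3,4,6,4,3,6,3,4,6] 1 36828 12276 = true := by decide +kernel
theorem w27_4 : shiftOK [3,6,3,4,6,4,3,6,3,4,6] 1 49104 12276 = true := by decide +kernel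
theorem w27_5 : shiftOK [3,6,3,4,6,4,3,6,3,4,6] 1 61380 12276 = true := by decide +kernel
theorem w27_6 : shiftOK [3,6,3,4,6,4,3,6,3,4,6] 1 73656 12276 = true := by decide +kernel
theorem w27_7 : shiftOK [3,6,3,4,6,4,3,6,3,4,6] 1 85932 12276 = true := by decide +kernel
theorem w27_8 : shiftOK [3,6,3,4,6,4,3,6,3,4,6] 1 98208 12276 = true := by decide +kernel
theorem w27_9 : shiftOK [3,6,3,4,6,4,3,6,3,4,6] 1 110484 12276 = true := by decide +kernel
theorem w27 : ∀ c < 122760, (trace [3,6,3,4,6,4,3,6,3,4,6] c 0).1 = c ∧ (trace [3,6,3,4,6,4,3,6,3,4,6] c 0).2 % 3 = 1 := fun c hc => by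
  by_cases h0 : c < 12276
  · exact shiftOK_spec w27_0 (by omega) (by omega)
  by_cases h1 : c < 24552
  · exact shiftOK_spec w27_1 (by omega) (by omega)
  by_cases h2 : c < 36828
  · exact shiftOK_spec w27_2 (by omega) (by omega)
  by_cases h3 : c < 49104
  · exact shiftOK_spec w27_3 (by omega) (by omega)
  by_cases h4 : c < 61380
  · exact shiftOK_spec w27_4 (by omega) (by omega)
  by_cases h5 : c < 73656
  · exact shiftOK_spec w27_5 (by omega) (by omega)
  by_cases h6 : c < 85932
  · exact shiftOK_spec w27_6 (by omega) (by omega)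
  by_cases h7 : c < 98208
  · exact shiftOK_spec w27_7 (by omega) (by omega)
  by_cases h8 : c < 110484
  · exact shiftOK_spec w27_8 (by omega) (by omega)
  exact shiftOK_spec w27_9 (by omega) (by omega)

theorem w28_0 : shiftOK [6,7] 0 0 12276 = true := by decide +kernel
theorem w28_1 : shiftOK [6,7] 0 12276 12276 = true := by decide +kernel
theorem w28_2 : shiftOK [6,7] 0 24552 12276 = true := by decide +kernel
theorem w28_3 : shiftOK [6,7] 0 36828 12276 = true := by decide +kernel
theorem w28_4 : shiftOK [6,7] 0 49104 12276 = true := by decide +kernel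
theorem w28_5 : shiftOK [6,7] 0 61380 12276 = true := by decide +kernel
theorem w28_6 : shiftOK [6,7] 0 73656 12276 = true := by decide +kernel
theorem w28_7 : shiftOK [6,7] 0 85932 12276 = true := by decide +kernel
theorem w28_8 : shiftOK [6,7] 0 98208 12276 = true := by decide +kernel
theorem w28_9 : shiftOK [6,7] 0 110484 12276 = true := by decide +kernel
theorem w28 : ∀ c < 122760, (trace [6,7] c 0).1 = c ∧ (trace [6,7] c 0).2 % 3 = 0 := fun c hc => by
  by_cases h0 : c < 12276
  · exact shiftOK_spec w28_0 (by omega) (by omega)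
  by_cases h1 : c < 24552
  · exact shiftOK_spec w28_1 (by omega) (by omega)
  by_cases h2 : c < 36828
  · exact shiftOK_spec w28_2 (by omega) (by omega)
  by_cases h3 : c < 49104
  · exact shiftOK_spec w28_3 (by omega) (by omega)
  by_cases h4 : c < 61380
  · exact shiftOK_spec w28_4 (by omega) (by omega)
  by_cases h5 : c < 73656
  · exact shiftOK_spec w28_5 (by omega) (by omega)
  by_cases h6 : c < 85932
  · exact shiftOK_spec w28_6 (by omega) (by omega)
  by_cases h7 : c < 98208
  · exact shiftOK_spec w28_7 (by omega) (by omega)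
  by_cases h8 : c < 110484
  · exact shiftOK_spec w28_8 (by omega) (by omega)
  exact shiftOK_spec w28_9 (by omega) (by omega)

end H26.ONCover
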