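import Cfsg.Agent.H26.ONCover.Check

/-! Checks of the labelled table (generated data). -/

set_option autoImplicit false
set_option maxRecDepth 100000
set_option linter.all false
set_option Elab.async false

namespace H26.ONCover

theorem w8_0 : shiftOK [3,1,3,1] 0 0 12276 = true := by decide +kernel
theorem w8_1 : shiftOK [3,1,3,1] 0 12276 12276 = true := by decide +kernel
theorem w8_2 : shiftOK [3,1,3,1] 0 24552 12276 = true := by decide +kernel
theorem w8_3 : shiftOK [3,1,3,1] 0 36828 12276 = true := by decide +kernel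
theorem w8_4 : shiftOK [3,1,3,1] 0 49104 12276 = true := by decide +kernel
theorem w8_5 : shiftOK [3,1,3,1] 0 61380 12276 = true := by decide +kernel
theorem w8_6 : shiftOK [3,1,3,1] 0 73656 12276 = true := by decide +kernel
theorem w8_7 : shiftOK [3,1,3,1] 0 85932 12276 = true := by decide +kernel
theorem w8_8 : shiftOK [3,1,3,1] 0 98208 12276 = true := by decide +kernel
theorem w8_9 : shiftOK [3,1,3,1] 0 110484 12276 = true := by decide +kernel
theorem w8 : ∀ c < 122760, (trace [3,1,3,1] c 0).1 = c ∧ (trace [3,1,3,1] c 0).2 % 3 = 0 := fun c hc => by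
  by_cases h0 : c < 12276
  · exact shiftOK_spec w8_0 (by omega) (by omega)
  by_cases h1 : c < 24552
  · exact shiftOK_spec w8_1 (by omega) (by omega)
  by_cases h2 : c < 36828
  · exact shiftOK_spec w8_2 (by omega) (by omega)
  by_cases h3 : c < 49104
  · exact shiftOK_spec w8_3 (by omega) (by omega)
  by_cases h4 : c < 61380
  · exact shiftOK_spec w8_4 (by omega) (by omega)
  by_cases h5 : c < 73656
  · exact shiftOK_spec w8_5 (by omega) (by omega)
  by_cases h6 : c < 85932
  · exact shiftOK_spec w8_6 (by omega) (by omega)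
  by_cases h7 : c < 98208
  · exact shiftOK_spec w8_7 (by omega) (by omega)
  by_cases h8 : c < 110484
  · exact shiftOK_spec w8_8 (by omega) (by omega)
  exact shiftOK_spec w8_9 (by omega) (by omega)

theorem w21_0 : shiftOK [7,7,5,0] 0 0 12276 = true := by decide +kernel
theorem w21_1 : shiftOK [7,7,5,0] 0 12276 12276 = true := by decide +kernel
theorem w21_2 : shiftOK [7,7,5,0] 0 24552 12276 = true := by decide +kernel
theorem w21_3 : shiftOK [7,7,5,0] 0 36828 12276 = true := by decide +kernel
theorem w21_4 : shiftOK [7,7,5,0] 0 49104 12276 = true := by decide +kernel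
theorem w21_5 : shiftOK [7,7,5,0] 0 61380 12276 = true := by decide +kernel
theorem w21_6 : shiftOK [7,7,5,0] 0 73656 12276 = true := by decide +kernel
theorem w21_7 : shiftOK [7,7,5,0] 0 85932 12276 = true := by decide +kernel
theorem w21_8 : shiftOK [7,7,5,0] 0 98208 12276 = true := by decide +kernel
theorem w21_9 : shiftOK [7,7,5,0] 0 110484 12276 = true := by decide +kernel
theorem w21 : ∀ c < 122760, (trace [7,7,5,0] c 0).1 = c ∧ (trace [7,7,5,0] c 0).2 % 3 = 0 := fun c hc => by
  by_cases h0 : c < 12276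
  · exact shiftOK_spec w21_0 (by omega) (by omega)
  by_cases h1 : c < 24552
  · exact shiftOK_spec w21_1 (by omega) (by omega)
  by_cases h2 : c < 36828
  · exact shiftOK_spec w21_2 (by omega) (by omega)
  by_cases h3 : c < 49104
  · exact shiftOK_spec w21_3 (by omega) (by omega)
  by_cases h4 : c < 61380
  · exact shiftOK_spec w21_4 (by omega) (by omega)
  by_cases h5 : c < 73656
  · exact shiftOK_spec w21_5 (by omega) (by omega)
  by_cases h6 : c < 85932
  · exact shiftOK_spec w21_6 (by omega) (by omega)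
  by_cases h7 : c < 98208
  · exact shiftOK_spec w21_7 (by omega) (by omega)
  by_cases h8 : c < 110484
  · exact shiftOK_spec w21_8 (by omega) (by omega)
  exact shiftOK_spec w21_9 (by omega) (by omega)

theorem w22_0 : shiftOK [2,3,2,3,2,3,2,3,5,0] 0 0 12276 = true := by decide +kernel
theorem w22_1 : shiftOK [2,3,2,3,2,3,2,3,5,0] 0 12276 12276 = true := by decide +kernel
theorem w22_2 : shiftOK [2,3,2,3,2,3,2,3,5,0] 0 24552 12276 = true := by decide +kernel
theorem w22_3 : shiftOK [2,3,2,3,2,3,2,3,5,0] 0 36828 12276 = true := by decide +kernel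
theorem w22_4 : shiftOK [2,3,2,3,2,3,2,3,5,0] 0 49104 12276 = true := by decide +kernel
theorem w22_5 : shiftOK [2,3,2,3,2,3,2,3,5,0] 0 61380 12276 = true := by decide +kernel
theorem w22_6 : shiftOK [2,3,2,3,2,3,2,3,5,0] 0 73656 12276 = true := by decide +kernel
theorem w22_7 : shiftOK [2,3,2,3,2,3,2,3,5,0] 0 85932 12276 = true := by decide +kernel
theorem w22_8 : shiftOK [2,3,2,3,2,3,2,3,5,0] 0 98208 12276 = true := by decide +kernel
theorem w22_9 : shiftOK [2,3,2,3,2,3,2,3,5,0] 0 110484 12276 = true := by decide +kernel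
theorem w22 : ∀ c < 122760, (trace [2,3,2,3,2,3,2,3,5,0] c 0).1 = c ∧ (trace [2,3,2,3,2,3,2,3,5,0] c 0).2 % 3 = 0 := fun c hc => by
  by_cases h0 : c < 12276
  · exact shiftOK_spec w22_0 (by omega) (by omega)
  by_cases h1 : c < 24552
  · exact shiftOK_spec w22_1 (by omega) (by omega)
  by_cases h2 : c < 36828
  · exact shiftOK_spec w22_2 (by omega) (by omega)
  by_cases h3 : c < 49104
  · exact shiftOK_spec w22_3 (by omega) (by omega)
  by_cases h4 : c < 61380
  · exact shiftOK_spec w22_4 (by omega) (by omega)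
  by_cases h5 : c < 73656
  · exact shiftOK_spec w22_5 (by omega) (by omega)
  by_cases h6 : c < 85932
  · exact shiftOK_spec w22_6 (by omega) (by omega)
  by_cases h7 : c < 98208
  · exact shiftOK_spec w22_7 (by omega) (by omega)
  by_cases h8 : c < 110484
  · exact shiftOK_spec w22_8 (by omega) (by omega)
  exact shiftOK_spec w22_9 (by omega) (by omega)

theorem w24_0 : shiftOK [6,2,6,2,3,2,7,2,7,3] 0 0 12276 = true := by decide +kernel
theorem w24_1 : shiftOK [6,2,6,2,3,2,7,2,7,3] 0 12276 12276 = true := by decide +kernel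
theorem w24_2 : shiftOK [6,2,6,2,3,2,7,2,7,3] 0 24552 12276 = true := by decide +kernel
theorem w24_3 : shiftOK [6,2,6,2,3,2,7,2,7,3] 0 36828 12276 = true := by decide +kernel
theorem w24_4 : shiftOK [6,2,6,2,3,2,7,2,7,3] 0 49104 12276 = true := by decide +kernel
theorem w24_5 : shiftOK [6,2,6,2,3,2,7,2,7,3] 0 61380 12276 = true := by decide +kernel
theorem w24_6 : shiftOK [6,2,6,2,3,2,7,2,7,3] 0 73656 12276 = true := by decide +kernel
theorem w24_7 : shiftOK [6,2,6,2,3,2,7,2,7,3] 0 85932 12276 = true := by decide +kernel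
theorem w24_8 : shiftOK [6,2,6,2,3,2,7,2,7,3] 0 98208 12276 = true := by decide +kernel
theorem w24_9 : shiftOK [6,2,6,2,3,2,7,2,7,3] 0 110484 12276 = true := by decide +kernel
theorem w24 : ∀ c < 122760, (trace [6,2,6,2,3,2,7,2,7,3] c 0).1 = c ∧ (trace [6,2,6,2,3,2,7,2,7,3] c 0).2 % 3 = 0 := fun c hc => by
  by_cases h0 : c < 12276
  · exact shiftOK_spec w24_0 (by omega) (by omega)
  by_cases h1 : c < 24552
  · exact shiftOK_spec w24_1 (by omega) (by omega)
  by_cases h2 : c < 36828
  · exact shiftOK_spec w24_2 (by omega) (by omega)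
  by_cases h3 : c < 49104
  · exact shiftOK_spec w24_3 (by omega) (by omega)
  by_cases h4 : c < 61380
  · exact shiftOK_spec w24_4 (by omega) (by omega)
  by_cases h5 : c < 73656
  · exact shiftOK_spec w24_5 (by omega) (by omega)
  by_cases h6 : c < 85932
  · exact shiftOK_spec w24_6 (by omega) (by omega)
  by_cases h7 : c < 98208
  · exact shiftOK_spec w24_7 (by omega) (by omega)
  by_cases h8 : c < 110484
  · exact shiftOK_spec w24_8 (by omega) (by omega)
  exact shiftOK_spec w24_9 (by omega) (by omega)

end H26.ONCover
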