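import Cfsg.Agent.H26.ONCover.Check

/-! Checks of the labelled table (generated data). -/

set_option autoImplicit false
set_option maxRecDepth 100000
set_option linter.all false
set_option Elab.async false

namespace H26.ONCover

theorem w0_0 : shiftOK [0,0] 0 0 12276 = true := by decide +kernel
theorem w0_1 : shiftOK [0,0] 0 12276 12276 = true := by decide +kernel
theorem w0_2 : shiftOK [0,0] 0 24552 12276 = true := by decide +kernel
theorem w0_3 : shiftOK [0,0] 0 36828 12276 = true := by decide +kernel
theorem w0_4 : shiftOK [0,0] 0 49104 12276 = true := by decide +kernel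
theorem w0_5 : shiftOK [0,0] 0 61380 12276 = true := by decide +kernel
theorem w0_6 : shiftOK [0,0] 0 73656 12276 = true := by decide +kernel
theorem w0_7 : shiftOK [0,0] 0 85932 12276 = true := by decide +kernel
theorem w0_8 : shiftOK [0,0] 0 98208 12276 = true := by decide +kernel
theorem w0_9 : shiftOK [0,0] 0 110484 12276 = true := by decide +kernel
theorem w0 : ∀ c < 122760, (trace [0,0] c 0).1 = c ∧ (trace [0,0] c 0).2 % 3 = 0 := fun c hc => by
  by_cases h0 : c < 12276
  · exact shiftOK_spec w0_0 (by omega) (by omega)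
  by_cases h1 : c < 24552
  · exact shiftOK_spec w0_1 (by omega) (by omega)
  by_cases h2 : c < 36828
  · exact shiftOK_spec w0_2 (by omega) (by omega)
  by_cases h3 : c < 49104
  · exact shiftOK_spec w0_3 (by omega) (by omega)
  by_cases h4 : c < 61380
  · exact shiftOK_spec w0_4 (by omega) (by omega)
  by_cases h5 : c < 73656
  · exact shiftOK_spec w0_5 (by omega) (by omega)
  by_cases h6 : c < 85932
  · exact shiftOK_spec w0_6 (by omega) (by omega)
  by_cases h7 : c < 98208
  · exact shiftOK_spec w0_7 (by omega) (by omega)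
  by_cases h8 : c < 110484
  · exact shiftOK_spec w0_8 (by omega) (by omega)
  exact shiftOK_spec w0_9 (by omega) (by omega)

theorem w1_0 : shiftOK [1,0,1,0,1,0] 0 0 12276 = true := by decide +kernel
theorem w1_1 : shiftOK [1,0,1,0,1,0] 0 12276 12276 = true := by decide +kernel
theorem w1_2 : shiftOK [1,0,1,0,1,0] 0 24552 12276 = true := by decide +kernel
theorem w1_3 : shiftOK [1,0,1,0,1,0] 0 36828 12276 = true := by decide +kernel
theorem w1_4 : shiftOK [1,0,1,0,1,0] 0 49104 12276 = true := by decide +kernel
theorem w1_5 : shiftOK [1,0,1,0,1,0] 0 61380 12276 = true := by decide +kernel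
theorem w1_6 : shiftOK [1,0,1,0,1,0] 0 73656 12276 = true := by decide +kernel
theorem w1_7 : shiftOK [1,0,1,0,1,0] 0 85932 12276 = true := by decide +kernel
theorem w1_8 : shiftOK [1,0,1,0,1,0] 0 98208 12276 = true := by decide +kernel
theorem w1_9 : shiftOK [1,0,1,0,1,0] 0 110484 12276 = true := by decide +kernel
theorem w1 : ∀ c < 122760, (trace [1,0,1,0,1,0] c 0).1 = c ∧ (trace [1,0,1,0,1,0] c 0).2 % 3 = 0 := fun c hc => by
  by_cases h0 : c < 12276
  · exact shiftOK_spec w1_0 (by omega) (by omega)
  by_cases h1 : c < 24552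
  · exact shiftOK_spec w1_1 (by omega) (by omega)
  by_cases h2 : c < 36828
  · exact shiftOK_spec w1_2 (by omega) (by omega)
  by_cases h3 : c < 49104
  · exact shiftOK_spec w1_3 (by omega) (by omega)
  by_cases h4 : c < 61380
  · exact shiftOK_spec w1_4 (by omega) (by omega)
  by_cases h5 : c < 73656
  · exact shiftOK_spec w1_5 (by omega) (by omega)
  by_cases h6 : c < 85932
  · exact shiftOK_spec w1_6 (by omega) (by omega)
  by_cases h7 : c < 98208
  · exact shiftOK_spec w1_7 (by omega) (by omega)
  by_cases h8 : c < 110484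
  · exact shiftOK_spec w1_8 (by omega) (by omega)
  exact shiftOK_spec w1_9 (by omega) (by omega)

theorem w2_0 : shiftOK [2,0,2,0] 0 0 12276 = true := by decide +kernel
theorem w2_1 : shiftOK [2,0,2,0] 0 12276 12276 = true := by decide +kernel
theorem w2_2 : shiftOK [2,0,2,0] 0 24552 12276 = true := by decide +kernel
theorem w2_3 : shiftOK [2,0,2,0] 0 36828 12276 = true := by decide +kernel
theorem w2_4 : shiftOK [2,0,2,0] 0 49104 12276 = true := by decide +kernel
theorem w2_5 : shiftOK [2,0,2,0] 0 61380 12276 = true := by decide +kernel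
theorem w2_6 : shiftOK [2,0,2,0] 0 73656 12276 = true := by decide +kernel
theorem w2_7 : shiftOK [2,0,2,0] 0 85932 12276 = true := by decide +kernel
theorem w2_8 : shiftOK [2,0,2,0] 0 98208 12276 = true := by decide +kernel
theorem w2_9 : shiftOK [2,0,2,0] 0 110484 12276 = true := by decide +kernel
theorem w2 : ∀ c < 122760, (trace [2,0,2,0] c 0).1 = c ∧ (trace [2,0,2,0] c 0).2 % 3 = 0 := fun c hc => by
  by_cases h0 : c < 12276
  · exact shiftOK_spec w2_0 (by omega) (by omega)
  by_cases h1 : c < 24552
  · exact shiftOK_spec w2_1 (by omega) (by omega)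
  by_cases h2 : c < 36828
  · exact shiftOK_spec w2_2 (by omega) (by omega)
  by_cases h3 : c < 49104
  · exact shiftOK_spec w2_3 (by omega) (by omega)
  by_cases h4 : c < 61380
  · exact shiftOK_spec w2_4 (by omega) (by omega)
  by_cases h5 : c < 73656
  · exact shiftOK_spec w2_5 (by omega) (by omega)
  by_cases h6 : c < 85932
  · exact shiftOK_spec w2_6 (by omega) (by omega)
  by_cases h7 : c < 98208
  · exact shiftOK_spec w2_7 (by omega) (by omega)
  by_cases h8 : c < 110484
  · exact shiftOK_spec w2_8 (by omega) (by omega)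
  exact shiftOK_spec w2_9 (by omega) (by omega)

theorem w9_0 : shiftOK [4,1,4,1] 0 0 12276 = true := by decide +kernel
theorem w9_1 : shiftOK [4,1,4,1] 0 12276 12276 = true := by decide +kernel
theorem w9_2 : shiftOK [4,1,4,1] 0 24552 12276 = true := by decide +kernel
theorem w9_3 : shiftOK [4,1,4,1] 0 36828 12276 = true := by decide +kernel
theorem w9_4 : shiftOK [4,1,4,1] 0 49104 12276 = true := by decide +kernel
theorem w9_5 : shiftOK [4,1,4,1] 0 61380 12276 = true := by decide +kernel
theorem w9_6 : shiftOK [4,1,4,1] 0 73656 12276 = true := by decide +kernel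
theorem w9_7 : shiftOK [4,1,4,1] 0 85932 12276 = true := by decide +kernel
theorem w9_8 : shiftOK [4,1,4,1] 0 98208 12276 = true := by decide +kernel
theorem w9_9 : shiftOK [4,1,4,1] 0 110484 12276 = true := by decide +kernel
theorem w9 : ∀ c < 122760, (trace [4,1,4,1] c 0).1 = c ∧ (trace [4,1,4,1] c 0).2 % 3 = 0 := fun c hc => by
  by_cases h0 : c < 12276
  · exact shiftOK_spec w9_0 (by omega) (by omega)
  by_cases h1 : c < 24552
  · exact shiftOK_spec w9_1 (by omega) (by omega)
  by_cases h2 : c < 36828
  · exact shiftOK_spec w9_2 (by omega) (by omega)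
  by_cases h3 : c < 49104
  · exact shiftOK_spec w9_3 (by omega) (by omega)
  by_cases h4 : c < 61380
  · exact shiftOK_spec w9_4 (by omega) (by omega)
  by_cases h5 : c < 73656
  · exact shiftOK_spec w9_5 (by omega) (by omega)
  by_cases h6 : c < 85932
  · exact shiftOK_spec w9_6 (by omega) (by omega)
  by_cases h7 : c < 98208
  · exact shiftOK_spec w9_7 (by omega) (by omega)
  by_cases h8 : c < 110484
  · exact shiftOK_spec w9_8 (by omega) (by omega)
  exact shiftOK_spec w9_9 (by omega) (by omega)

theorem w18_0 : shiftOK [4,4] 0 0 12276 = true := by decide +kernel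
theorem w18_1 : shiftOK [4,4] 0 12276 12276 = true := by decide +kernel
theorem w18_2 : shiftOK [4,4] 0 24552 12276 = true := by decide +kernel
theorem w18_3 : shiftOK [4,4] 0 36828 12276 = true := by decide +kernel
theorem w18_4 : shiftOK [4,4] 0 49104 12276 = true := by decide +kernel
theorem w18_5 : shiftOK [4,4] 0 61380 12276 = true := by decide +kernel
theorem w18_6 : shiftOK [4,4] 0 73656 12276 = true := by decide +kernel
theorem w18_7 : shiftOK [4,4] 0 85932 12276 = true := by decide +kernel
theorem w18_8 : shiftOK [4,4] 0 98208 12276 = true := by decide +kernel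
theorem w18_9 : shiftOK [4,4] 0 110484 12276 = true := by decide +kernel
theorem w18 : ∀ c < 122760, (trace [4,4] c 0).1 = c ∧ (trace [4,4] c 0).2 % 3 = 0 := fun c hc => by
  by_cases h0 : c < 12276
  · exact shiftOK_spec w18_0 (by omega) (by omega)
  by_cases h1 : c < 24552
  · exact shiftOK_spec w18_1 (by omega) (by omega)
  by_cases h2 : c < 36828
  · exact shiftOK_spec w18_2 (by omega) (by omega)
  by_cases h3 : c < 49104
  · exact shiftOK_spec w18_3 (by omega) (by omega)
  by_cases h4 : c < 61380
  · exact shiftOK_spec w18_4 (by omega) (by omega)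
  by_cases h5 : c < 73656
  · exact shiftOK_spec w18_5 (by omega) (by omega)
  by_cases h6 : c < 85932
  · exact shiftOK_spec w18_6 (by omega) (by omega)
  by_cases h7 : c < 98208
  · exact shiftOK_spec w18_7 (by omega) (by omega)
  by_cases h8 : c < 110484
  · exact shiftOK_spec w18_8 (by omega) (by omega)
  exact shiftOK_spec w18_9 (by omega) (by omega)

theorem w23_0 : shiftOK [6,3,6,3,2,3,7,3,7,2] 0 0 12276 = true := by decide +kernel
theorem w23_1 : shiftOK [6,3,6,3,2,3,7,3,7,2] 0 12276 12276 = true := by decide +kernel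
theorem w23_2 : shiftOK [6,3,6,3,2,3,7,3,7,2] 0 24552 12276 = true := by decide +kernel
theorem w23_3 : shiftOK [6,3,6,3,2,3,7,3,7,2] 0 36828 12276 = true := by decide +kernel
theorem w23_4 : shiftOK [6,3,6,3,2,3,7,3,7,2] 0 49104 12276 = true := by decide +kernel
theorem w23_5 : shiftOK [6,3,6,3,2,3,7,3,7,2] 0 61380 12276 = true := by decide +kernel
theorem w23_6 : shiftOK [6,3,6,3,2,3,7,3,7,2] 0 73656 12276 = true := by decide +kernel
theorem w23_7 : shiftOK [6,3,6,3,2,3,7,3,7,2] 0 85932 12276 = true := by decide +kernel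
theorem w23_8 : shiftOK [6,3,6,3,2,3,7,3,7,2] 0 98208 12276 = true := by decide +kernel
theorem w23_9 : shiftOK [6,3,6,3,2,3,7,3,7,2] 0 110484 12276 = true := by decide +kernel
theorem w23 : ∀ c < 122760, (trace [6,3,6,3,2,3,7,3,7,2] c 0).1 = c ∧ (trace [6,3,6,3,2,3,7,3,7,2] c 0).2 % 3 = 0 := fun c hc => by
  by_cases h0 : c < 12276
  · exact shiftOK_spec w23_0 (by omega) (by omega)
  by_cases h1 : c < 24552
  · exact shiftOK_spec w23_1 (by omega) (by omega)
  by_cases h2 : c < 36828
  · exact shiftOK_spec w23_2 (by omega) (by omega)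
  by_cases h3 : c < 49104
  · exact shiftOK_spec w23_3 (by omega) (by omega)
  by_cases h4 : c < 61380
  · exact shiftOK_spec w23_4 (by omega) (by omega)
  by_cases h5 : c < 73656
  · exact shiftOK_spec w23_5 (by omega) (by omega)
  by_cases h6 : c < 85932
  · exact shiftOK_spec w23_6 (by omega) (by omega)
  by_cases h7 : c < 98208
  · exact shiftOK_spec w23_7 (by omega) (by omega)
  by_cases h8 : c < 110484
  · exact shiftOK_spec w23_8 (by omega) (by omega)
  exact shiftOK_spec w23_9 (by omega) (by omega)

end H26.ONCover
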