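import Cfsg.Agent.H26.ONCover.Chk0
import Cfsg.Agent.H26.ONCover.Chk1
import Cfsg.Agent.H26.ONCover.Chk2
import Cfsg.Agent.H26.ONCover.Chk3
import Cfsg.Agent.H26.ONCover.Chk4
import Cfsg.Agent.H26.ONCover.Chk5

/-! The labelled table as a whole (generated data). -/

set_option autoImplicit false

namespace H26.ONCover

/-- the checked words with their shifts -/
def checked : List (List ℕ × ℕ) :=
  [([0,0], 0),
   ([1,0,1,0,1,0], 0),
   ([2,0,2,0], 0),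
   ([3,0,3,0], 0),
   ([4,0,4,0], 0),
   ([5,0,5,0], 0),
   ([1,1], 0),
   ([2,1,2,1,2,1], 0),
   ([3,1,3,1], 0),
   ([4,1,4,1], 0),
   ([5,1,5,1], 0),
   ([2,2], 0),
   ([3,2,3,2,3,2,3,2,3,2,3,2,3,2,3,2], 0),
   ([4,2,4,2], 0),
   ([5,2,5,2], 0),
   ([3,3], 0),
   ([4,3,4,3,4,3], 0),
   ([5,3,5,3], 0),
   ([4,4], 0),
   ([5,4,5,4,5,4], 0),
   ([5,5], 0),
   ([7,7,5,0], 0),
   ([2,3,2,3,2,3,2,3,5,0], 0),
   ([6,3,6,3,2,3,7,3,7,2], 0),
   ([6,2,6,2,3,2,7,2,7,3], 0),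
   ([6,3,2,1,6,3,2,1,6,3,2,1,6,3,2,1,6,3,2,1], 1),
   ([2,6,2,1,6,1,2,6,2,1,6], 1),
   ([3,6,3,4,6,4,3,6,3,4,6], 1),
   ([6,7], 0),
   ([7,6], 0)]

theorem checked_spec : ∀ wk ∈ checked, ∀ c < 122760,
    (trace wk.1 c 0).1 = c ∧ (trace wk.1 c 0).2 % 3 = wk.2 := by
  simp only [checked, List.forall_mem_cons, List.not_mem_nil, IsEmpty.forall_iff, implies_true, and_true]
  exact ⟨w0, w1, w2, w3, w4, w5, w6, w7, w8, w9, w10, w11, w12, w13, w14, w15, w16, w17, w18, w19, w20, w21, w22, w23, w24, w25, w26, w27, w28, w29⟩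

theorem range_spec : ∀ g < 8, ∀ c < 122760, Nat.land (ent g c) 131071 < 122760 := by
  intro g hg
  match g, hg with
  | 0, _ => exact r0
  | 1, _ => exact r1
  | 2, _ => exact r2
  | 3, _ => exact r3
  | 4, _ => exact r4
  | 5, _ => exact r5
  | 6, _ => exact r6
  | 7, _ => exact r7
  | k + 8, h => exact absurd h (by omega)

end H26.ONCover
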