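import Mathlib.GroupTheory.Abelianization.Defs
import Cfsg.Prelude.Def_KGroupFacts
import Cfsg.Agent.H93.ONOrder
import Cfsg.Agent.H26.ONCover.Tables

/-!
A stem extension of the presented O'Nan group with kernel of order three, given by a permutation
table with labels in `ZMod 3`.
-/

set_option autoImplicit false
set_option maxRecDepth 100000
set_option linter.constructorNameAsVariable false
set_option linter.style.haveILetI false

namespace H26.ONCover

open H93.CosetI (ev ev_append ev_reverse wordOf lift_eq_ev mem_relList)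
open H93.ON (ix gen_ix relWords relCover)

abbrev Pt : Type := Fin 122760 × ZMod 3

theorem iv_facts : ∀ g < 8, H93.ON.iv g < 8 ∧ H93.ON.iv (H93.ON.iv g) = g ∧
    ([g, H93.ON.iv g], 0) ∈ checked := by decide +kernel

/-- the labelled permutation of a letter -/
noncomputable def step (g : ℕ) (hg : g < 8) (x : Pt) : Pt :=
  (⟨Nat.land (ent g x.1) 131071, range_spec g hg x.1 x.1.2⟩,
    x.2 + (Nat.shiftRight (ent g x.1) 17 : ℕ))

theorem step_step (g h : ℕ) (hg : g < 8) (hh : h < 8) (hm : ([g, h], 0) ∈ checked) (x : Pt) :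
    step h hh (step g hg x) = x := by
  obtain ⟨h1, h2⟩ := checked_spec _ hm x.1 x.1.2
  simp only [trace] at h1 h2
  refine Prod.ext (Fin.ext h1) ?_
  show x.2 + _ + _ = x.2
  rw [add_assoc, ← Nat.cast_add]
  have h3 : ((Nat.shiftRight (ent g x.1) 17 +
      Nat.shiftRight (ent h (Nat.land (ent g x.1) 131071)) 17 : ℕ) : ZMod 3) = 0 :=
    (ZMod.natCast_eq_zero_iff _ 3).2 (Nat.dvd_of_mod_eq_zero (by rw [Nat.zero_add] at h2; exact h2))
  exact (congrArg (x.2 + ·) h3).trans (add_zero _)

/-- the permutation of a letter -/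
noncomputable def perm (g : ℕ) : Equiv.Perm Pt :=
  if hg : g < 8 then
    { toFun := step g hg
      invFun := step (H93.ON.iv g) (iv_facts g hg).1
      left_inv := step_step g _ hg _ (iv_facts g hg).2.2
      right_inv := step_step _ g _ hg (by
        have h := (iv_facts _ (iv_facts g hg).1).2.2
        rwa [(iv_facts g hg).2.1] at h) }
  else 1

theorem perm_apply {g : ℕ} (hg : g < 8) (x : Pt) : perm g x = step g hg x := by
  rw [perm, dif_pos hg]; rfl

theorem perm_inv (g : ℕ) (hg : g < 8) : perm (H93.ON.iv g) * perm g = 1 := by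
  ext1 x
  rw [Equiv.Perm.mul_apply, perm_apply hg, perm_apply (iv_facts g hg).1]
  exact step_step g _ hg _ (iv_facts g hg).2.2 x

/-- the shift of all labels by one -/
def zeta : Equiv.Perm Pt := Equiv.prodCongr (Equiv.refl _) (Equiv.addRight 1)

theorem zeta_apply (x : Pt) : zeta x = (x.1, x.2 + 1) := rfl

theorem zeta_pow (k : ℕ) (x : Pt) : (zeta ^ k) x = (x.1, x.2 + k) := by
  induction k with
  | zero => simp
  | succ k ih => rw [pow_succ', Equiv.Perm.mul_apply, ih, zeta_apply]; simp [add_assoc]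

theorem zeta_cube : zeta ^ 3 = 1 := by
  ext1 x
  rw [zeta_pow, show ((3 : ℕ) : ZMod 3) = 0 from ZMod.natCast_self 3, add_zero]; rfl

theorem zeta_ne_one : zeta ≠ 1 := fun h => by
  have := congrArg (fun f : Equiv.Perm Pt => (f (0, 0)).2) h
  simp [zeta_apply] at this

theorem perm_comm (g : ℕ) : Commute zeta (perm g) := by
  by_cases hg : g < 8
  · refine Equiv.ext fun x => ?_
    simp only [Equiv.Perm.mul_apply, perm_apply hg, zeta_apply, step]
    exact Prod.ext rfl (by ring)
  · rw [perm, dif_neg hg]; exact Commute.one_right _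

theorem ev_perm (w : List ℕ) : (∀ g ∈ w, g < 8) → ∀ (c : Fin 122760) (t : ZMod 3) (s : ℕ),
    ((ev perm w (c, t + s)).1 : ℕ) = (trace w c s).1 ∧
      (ev perm w (c, t + s)).2 = t + (trace w c s).2 := by
  induction w with
  | nil => intro _ c t s; simp [ev, trace]
  | cons g w ih =>
    intro hl c t s
    have hg : g < 8 := hl g (by simp)
    have h := ih (fun a ha => hl a (by simp [ha]))
      ⟨Nat.land (ent g c) 131071, range_spec g hg c c.2⟩ t (s + Nat.shiftRight (ent g c) 17)
    rw [ev, Equiv.Perm.mul_apply, perm_apply hg]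
    simp only [trace]
    rw [show step g hg (c, t + (s : ZMod 3)) = (⟨Nat.land (ent g c) 131071, range_spec g hg c c.2⟩,
      t + ((s + Nat.shiftRight (ent g c) 17 : ℕ) : ZMod 3)) from
        Prod.ext rfl (by rw [Nat.cast_add, ← add_assoc]; rfl)]
    exact h

theorem checked_letters : ∀ wk ∈ checked, ∀ g ∈ wk.1, g < 8 := by decide +kernel

theorem ev_checked {w : List ℕ} {k : ℕ} (h : (w, k) ∈ checked) : ev perm w = zeta ^ k := by
  refine Equiv.ext fun x => ?_
  obtain ⟨c, t⟩ := x
  obtain ⟨e1, e2⟩ := ev_perm w (checked_letters _ h) c t 0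
  obtain ⟨h1, h2⟩ := checked_spec _ h c c.2
  rw [Nat.cast_zero, add_zero] at e1 e2
  rw [zeta_pow]
  refine Prod.ext (Fin.ext (e1.trans h1)) (e2.trans ?_)
  show t + _ = t + _
  rw [← ZMod.natCast_mod, h2]

/-- the covering group -/
noncomputable abbrev E : Subgroup (Equiv.Perm Pt) := Subgroup.closure (perm '' {g | g < 8})

theorem perm_mem (g : ℕ) : perm g ∈ E := by
  by_cases hg : g < 8
  · exact Subgroup.subset_closure ⟨g, hg, rfl⟩
  · rw [perm, dif_neg hg]; exact one_mem _

noncomputable def gE (g : ℕ) : E := ⟨perm g, perm_mem g⟩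

theorem gE_closure : Subgroup.closure (gE '' {g | g < 8}) = ⊤ := by
  apply Subgroup.map_injective E.subtype_injective
  rw [MonoidHom.map_closure, ← MonoidHom.range_eq_map, Subgroup.range_subtype, ← Set.image_comp]
  rfl

theorem ev_gE (w : List ℕ) : ((ev gE w : E) : Equiv.Perm Pt) = ev perm w := by
  induction w with
  | nil => rfl
  | cons g w ih => rw [ev, ev, Subgroup.coe_mul, ih]; rfl

/-- the relator with shift one -/
def rw25 : List ℕ := [6,3,2,1,6,3,2,1,6,3,2,1,6,3,2,1,6,3,2,1]

theorem rw25_checked : (rw25, 1) ∈ checked := by decide +kernel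

noncomputable def zE : E := ev gE rw25

theorem zE_val : (zE : Equiv.Perm Pt) = zeta := by
  rw [zE, ev_gE, ev_checked rw25_checked, pow_one]

theorem ev_gE_checked {w : List ℕ} {k : ℕ} (h : (w, k) ∈ checked) : ev gE w = zE ^ k :=
  Subtype.ext (by rw [ev_gE, ev_checked h, Subgroup.coe_pow, zE_val])

theorem zE_central : zE ∈ Subgroup.center E := by
  rw [Subgroup.mem_center_iff]
  intro g
  have hle : E ≤ Subgroup.centralizer {zeta} := (Subgroup.closure_le _).2 (by
    rintro _ ⟨a, -, rfl⟩
    exact Subgroup.mem_centralizer_singleton_iff.2 (perm_comm a).eq.symm)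
  apply Subtype.ext
  rw [Subgroup.coe_mul, Subgroup.coe_mul, zE_val]
  exact Subgroup.mem_centralizer_singleton_iff.1 (hle g.2)

noncomputable abbrev Z : Subgroup E := Subgroup.zpowers zE

instance Z_normal : Z.Normal where
  conj_mem n hn g := by
    have hc : n ∈ Subgroup.center E := (Subgroup.zpowers_le (H := Subgroup.center E)).2 zE_central hn
    rw [Subgroup.mem_center_iff.1 hc g, mul_inv_cancel_right]
    exact hn

theorem orderOf_zE : orderOf zE = 3 := by
  rw [← Subgroup.orderOf_coe, zE_val]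
  exact orderOf_eq_prime zeta_cube zeta_ne_one

theorem card_Z : Nat.card Z = 3 := by rw [Nat.card_zpowers, orderOf_zE]

theorem relWords_checked : ∀ w ∈ relWords, w ∈ checked.map Prod.fst := by decide +kernel

/-- the letters in the quotient -/
noncomputable def q (g : ℕ) : E ⧸ Z := QuotientGroup.mk' Z (gE g)

theorem ev_q (w : List ℕ) : ev q w = QuotientGroup.mk' Z (ev gE w) := by
  induction w with
  | nil => simp [ev]
  | cons g w ih => rw [ev, ev, map_mul, ih]; rfl

theorem ev_q_rel {w : List ℕ} (h : w ∈ relWords) : ev q w = 1 := by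
  obtain ⟨⟨w', k⟩, hwk, rfl⟩ := List.mem_map.1 (relWords_checked w h)
  rw [ev_q, ev_gE_checked hwk, QuotientGroup.mk'_apply, QuotientGroup.eq_one_iff]
  exact pow_mem (Subgroup.mem_zpowers _) _

theorem q_inv (g : ℕ) (hg : g < 8) : q (H93.ON.iv g) * q g = 1 := by
  rw [q, q, ← map_mul]
  have : gE (H93.ON.iv g) * gE g = 1 := Subtype.ext (perm_inv g hg)
  rw [this, map_one]

theorem rels_hold : ∀ r ∈ Cfsg.Spor.coxRelators Cfsg.Spor.ON.edges ∪ {r | r ∈ Cfsg.Spor.ON.extra},
    FreeGroup.lift (fun a => q (ix a)) r = 1 := by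
  intro r hr
  rw [lift_eq_ev _ q ix H93.ON.iv (fun _ => rfl) (fun a =>
    eq_inv_of_mul_eq_one_left (q_inv (ix a) (by cases a <;> decide)))]
  rcases relCover r (mem_relList.mpr hr) with h | h
  · exact ev_q_rel h
  · have h1 := ev_q_rel h
    have hlet : ∀ g ∈ wordOf ix H93.ON.iv r, g < 8 := by
      intro g hg
      simp only [wordOf, List.mem_reverse, List.mem_map] at hg
      obtain ⟨⟨a, b⟩, -, rfl⟩ := hg
      cases b <;> cases a <;> decide
    rw [ev_reverse q q_inv _ hlet, inv_eq_one] at h1
    exact h1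

/-- the map from the presented group -/
noncomputable def rho : Cfsg.Spor.ON →* E ⧸ Z := PresentedGroup.toGroup rels_hold

theorem rho_surjective : Function.Surjective rho := by
  rw [← MonoidHom.range_eq_top, eq_top_iff,
    ← Subgroup.map_top_of_surjective _ (QuotientGroup.mk'_surjective Z), ← gE_closure,
    MonoidHom.map_closure, Subgroup.closure_le]
  rintro _ ⟨_, ⟨g, hg, rfl⟩, rfl⟩
  have hof : ∀ a, q (ix a) ∈ rho.range := fun a =>
    ⟨PresentedGroup.of a, PresentedGroup.toGroup.of _⟩
  show q g ∈ rho.range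
  match g, hg with
  | 0, _ => exact hof .a
  | 1, _ => exact hof .b
  | 2, _ => exact hof .c
  | 3, _ => exact hof .d
  | 4, _ => exact hof .e
  | 5, _ => exact hof .f
  | 6, _ => exact hof .g
  | 7, _ =>
    have h : q (H93.ON.iv 6) = (q 6)⁻¹ := eq_inv_of_mul_eq_one_left (q_inv 6 (by decide))
    have h' : q 7 = (q 6)⁻¹ := h
    rw [h']
    exact inv_mem (hof .g)
  | k + 8, h => exact absurd h (by simp)

theorem ent_moves : Nat.land (ent 6 0) 131071 ≠ 0 := by decide +kernel

theorem q_six_ne_one : q 6 ≠ 1 := fun h => by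
  rw [q, QuotientGroup.mk'_apply, QuotientGroup.eq_one_iff, Subgroup.mem_zpowers_iff] at h
  obtain ⟨k, hk⟩ := h
  have h2 : zeta ^ k = perm 6 := by
    rw [← zE_val]
    exact congrArg Subtype.val hk
  have h3 : ∃ j : ℕ, zeta ^ j = perm 6 := by
    refine ⟨(k % 3).toNat, ?_⟩
    rw [← zpow_natCast, Int.toNat_of_nonneg (Int.emod_nonneg _ (by decide)), ← h2]
    conv_rhs => rw [← Int.mul_ediv_add_emod k 3, zpow_add, zpow_mul]
    rw [show zeta ^ (3 : ℤ) = 1 from zeta_cube, one_zpow, one_mul]
  obtain ⟨j, hj⟩ := h3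
  have h4 := congrArg (fun f : Equiv.Perm Pt => ((f (0, 0)).1 : ℕ)) hj
  simp only [zeta_pow, perm_apply (show 6 < 8 by decide), step] at h4
  exact ent_moves h4.symm

theorem rho_bijective : Function.Bijective rho := by
  refine ⟨?_, rho_surjective⟩
  haveI : IsSimpleGroup Cfsg.Spor.ON := H93.ON.isON.1
  rw [← MonoidHom.ker_eq_bot_iff]
  refine (Subgroup.Normal.eq_bot_or_eq_top inferInstance).resolve_right fun htop => q_six_ne_one ?_
  have h : rho (PresentedGroup.of Cfsg.Spor.ON.Gen.g) = q 6 := PresentedGroup.toGroup.of _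
  rw [← h]
  exact (MonoidHom.mem_ker).1 (by rw [htop]; exact Subgroup.mem_top _)

/-- the covering map -/
noncomputable def cover : E →* Cfsg.Spor.ON :=
  (MulEquiv.ofBijective rho rho_bijective).symm.toMonoidHom.comp (QuotientGroup.mk' Z)

theorem cover_ker : cover.ker = Z := by
  ext x
  simp [cover, MonoidHom.mem_ker, QuotientGroup.eq_one_iff]

theorem eight {A : Type*} [CommGroup A] (x p q : A) :
    x * p * q * p * q * p * q * p * q = x * (p * p * (q * q)) ^ 2 := by
  simp only [pow_two]
  ac_rfl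

theorem twenty {A : Type*} [CommGroup A] (p q r s : A) :
    (p * (q * (r * s))) ^ 5 = p * q * r * s * p * q * r * s * p * q * r * s * p * q * r * s *
      p * q * r * s := by
  simp only [pow_succ, pow_zero, one_mul, mul_assoc]

theorem zE_mem_commutator : zE ∈ commutator E := by
  rw [← Abelianization.ker_of, MonoidHom.mem_ker]
  let a : ℕ → Abelianization E := fun g => Abelianization.of (gE g)
  have hev : ∀ w, Abelianization.of (ev gE w) = ev a w := by
    intro w
    induction w with
    | nil => simp [ev]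
    | cons g w ih => rw [ev, ev, map_mul, ih]
  have hc : ∀ {w k}, (w, k) ∈ checked → ev a w = Abelianization.of zE ^ k := fun h => by
    rw [← hev, ev_gE_checked h, map_pow]
  have hsq : ∀ g < 6, a g * a g = 1 := by
    have hm : ∀ g < 6, ([g, g], 0) ∈ checked := by decide +kernel
    intro g hg
    have := hc (hm g hg)
    simpa [ev] using this
  have h7 : a 6 * a 7 = 1 := by
    have := hc (show ([7, 6], 0) ∈ checked by decide +kernel)
    simpa [ev] using this
  have h21 : a 0 * a 5 * (a 7 * a 7) = 1 := by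
    have := hc (show ([7, 7, 5, 0], 0) ∈ checked by decide +kernel)
    simpa [ev, mul_assoc] using this
  have h22 : a 0 * a 5 * (a 3 * a 3 * (a 2 * a 2)) ^ 2 = 1 := by
    have h := hc (show ([2,3,2,3,2,3,2,3,5,0], 0) ∈ checked by decide +kernel)
    simp only [ev, one_mul, pow_zero] at h
    rw [← h, eight]
  rw [hsq 3 (by decide), hsq 2 (by decide), one_mul, one_pow, mul_one] at h22
  rw [h22, one_mul] at h21
  have h66 : a 6 * a 6 = 1 := by
    have e : a 6 = (a 7)⁻¹ := eq_inv_of_mul_eq_one_left h7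
    rw [e, ← mul_inv, h21, inv_one]
  set u := a 1 * (a 2 * (a 3 * a 6)) with hu
  have hu2 : u ^ 2 = 1 := by
    rw [hu, mul_pow, mul_pow, mul_pow, pow_two, pow_two, pow_two, pow_two, hsq 1 (by decide),
      hsq 2 (by decide), hsq 3 (by decide), h66]
    simp
  have hz : u ^ 5 = Abelianization.of zE := by
    have := hc rw25_checked
    rw [pow_one] at this
    rw [← this, hu]
    simp only [rw25, ev, one_mul]
    exact twenty _ _ _ _
  have h2z : Abelianization.of zE ^ 2 = 1 := by
    rw [← hz, ← pow_mul, show 5 * 2 = 2 * 5 from rfl, pow_mul, hu2, one_pow]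
  have h3z : Abelianization.of zE ^ 3 = 1 := by
    rw [← map_pow, ← orderOf_zE, pow_orderOf_eq_one, map_one]
  rw [show (3 : ℕ) = 2 + 1 from rfl, pow_succ, h2z, one_mul] at h3z
  exact h3z

theorem cover_stem : Cfsg.IsStemExtension cover := by
  refine ⟨(MulEquiv.ofBijective rho rho_bijective).symm.surjective.comp (QuotientGroup.mk'_surjective Z),
    ?_, ?_⟩ <;> rw [cover_ker, Subgroup.zpowers_le]
  · exact zE_central
  · exact zE_mem_commutator

/-- there is a stem extension with kernel of order three -/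
theorem exists_triple_cover : ∃ (Γ : Type) (_ : Group Γ) (_ : Finite Γ) (σ : Γ →* Cfsg.Spor.ON),
    Cfsg.IsStemExtension σ ∧ Nonempty (σ.ker ≃* Multiplicative (ZMod 3)) := by
  haveI : IsCyclic cover.ker := by rw [cover_ker]; infer_instance
  refine ⟨E, inferInstance, inferInstance, cover, cover_stem, ⟨?_⟩⟩
  exact mulEquivOfCyclicCardEq (by rw [cover_ker, card_Z, Nat.card_eq_fintype_card, Fintype.card_multiplicative, ZMod.card])

end H26.ONCover
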